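/-
Central extensions of prime degree of permutation groups on the 24 points: certificates that the
inverse image of a Sylow subgroup splits, by linear consequences of pairs of derivations.
-/
import Cfsg.Agent.M23Coh.Basic
import Cfsg.Agent.Schur.SylowCover

set_option autoImplicit false
set_option maxRecDepth 100000

namespace CfsgLib.SchurCert

open Cfsg CfsgLib.Golay CfsgLib.Schur
open CfsgLib.M23Coh (Pres Step applyStep wordT wordE wordE_append idTab permOf_idTab)
open scoped commutatorElement

universe u

/-- A membership test for tables with its soundness. -/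
def Sound (H : Subgroup (Equiv.Perm GolayPt)) (ok : List ℕ → Bool) : Prop :=
  ∀ g, ok g = true → validTab g = true ∧ permOf g ∈ H

/-- Coefficient of the relation `k` collected along a derivation. -/
def coef (p : ℕ) : List Step → ℕ → ℕ
  | [], _ => 0
  | s :: r, k => (bif Nat.beq s.1 k then (bif s.2.1 then p - 1 else 1) else 0) + coef p r k

/-- The end of a derivation. -/
def endWord (P : Pres) : List Step → List ℕ → Option (List ℕ)
  | [], w => some w
  | s :: r, w =>
    match applyStep P w s with
    | none => none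
    | some (w', _) => endWord P r w'

/-- A certificate. -/
structure Cert where
  /-- The prime. -/
  p : ℕ
  /-- Number of generators of the Sylow subgroup; its order is `p ^ n`. -/
  n : ℕ
  /-- Generators and relations. -/
  P : Pres
  /-- Pairs of derivations. -/
  eqs : List (List ℕ × List Step × List Step)
  /-- Corrections of the first `n` lifts, as coefficient vectors. -/
  D : List (List ℕ)
  /-- For each of the first relations, the multiples of the derived equations. -/
  sol : List (List (ℕ × ℕ))
  /-- Distinct products of the first `n` generators, by increasing key. -/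
  nf : List (List ℕ)

/-- Tables are good and relations hold. -/
def Cert.checkPres (c : Cert) (ok : List ℕ → Bool) : Bool :=
  c.P.gens.all ok && Nat.ble c.n c.P.gens.length &&
    c.P.rels.all fun r => wordT c.P.gens r.1 == wordT c.P.gens r.2

/-- Derivations from a common word with a common end. -/
def Cert.checkEqs (c : Cert) : Bool :=
  c.eqs.all fun e =>
    match endWord c.P e.2.1 e.1, endWord c.P e.2.2 e.1 with
    | some a, some b => a == b
    | _, _ => false

/-- The coefficient of an equation. -/
def Cert.eqCoef (c : Cert) (i k : ℕ) : ℕ :=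
  coef c.p (c.eqs.getD i ([], [], [])).2.1 k + (c.p - 1) * coef c.p (c.eqs.getD i ([], [], [])).2.2 k

/-- The coefficient of the correction of a word. -/
def Cert.dWord (c : Cert) : List ℕ → ℕ → ℕ
  | [], _ => 0
  | i :: r, k => (c.D.getD i []).getD k 0 + c.dWord r k

/-- Number of relations among the generators of the Sylow subgroup. -/
def Cert.ns (c : Cert) : ℕ := c.sol.length

/-- Every corrected relator is a combination of derived equations. -/
def Cert.checkSol (c : Cert) : Bool :=
  Nat.ble c.ns c.P.rels.length && (List.range c.ns).all fun j =>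
    (c.sol.getD j []).all (fun a => Nat.blt a.1 c.eqs.length) &&
    (List.range c.P.rels.length).all fun k =>
      Nat.beq (((bif Nat.beq j k then 1 else 0) + c.dWord (c.P.rels.getD j ([], [])).1 k +
        (c.p - 1) * c.dWord (c.P.rels.getD j ([], [])).2 k +
        (c.p - 1) * ((c.sol.getD j []).map fun a => a.2 * c.eqCoef a.1 k).sum) % c.p) 0

/-- A power and commutation relation for each pair, with the right hand side in the later generators. -/
def Cert.checkShape (c : Cert) : Bool :=
  (List.range c.n).all fun i =>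
    ((List.range c.ns).any fun j =>
      (c.P.rels.getD j ([], [])).1 == List.replicate c.p i &&
        (c.P.rels.getD j ([], [])).2.all fun s => Nat.blt i s && Nat.blt s c.n) &&
    (List.range c.n).all fun m =>
      Nat.ble m i || (List.range c.ns).any fun j =>
        (c.P.rels.getD j ([], [])).1 == [m, i] &&
          match (c.P.rels.getD j ([], [])).2 with
          | [] => false
          | h :: t => Nat.beq h i && t.all fun s => Nat.blt i s && Nat.blt s c.n

/-- A key of a table. -/
def key (t : List ℕ) : ℕ := t.foldl (fun a x => a * 24 + x) 0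

/-- Strictly increasing list. -/
def increasing : List ℕ → Bool
  | a :: b :: r => Nat.blt a b && increasing (b :: r)
  | _ => true

theorem increasing_nodup : ∀ l : List ℕ, increasing l = true → l.Nodup := by
  have h : ∀ l : List ℕ, increasing l = true → ∀ a r, l = a :: r → (∀ b ∈ r, a < b) ∧ r.Nodup := by
    intro l
    induction l with
    | nil => intro _ a r h; simp at h
    | cons x xs ih =>
      intro hl a r e
      obtain ⟨rfl, rfl⟩ := List.cons.inj e
      cases xs with
      | nil => simp
      | cons y ys =>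
        simp only [increasing, Bool.and_eq_true, Nat.blt_eq] at hl
        obtain ⟨h1, h2⟩ := ih hl.2 y ys rfl
        refine ⟨fun b hb => ?_, List.nodup_cons.2 ⟨fun hy => lt_irrefl _ (h1 _ hy), h2⟩⟩
        rcases List.mem_cons.1 hb with rfl | hb
        · exact hl.1
        · exact lt_trans hl.1 (h1 _ hb)
  intro l hl
  cases l with
  | nil => exact List.nodup_nil
  | cons a r =>
    obtain ⟨h1, h2⟩ := h _ hl a r rfl
    exact List.nodup_cons.2 ⟨fun ha => lt_irrefl _ (h1 _ ha), h2⟩

/-- The listed words give `p ^ n` different tables. -/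
def Cert.checkNF (c : Cert) : Bool :=
  Nat.beq c.nf.length (c.p ^ c.n) && (c.nf.all fun w => w.all fun s => Nat.blt s c.n) &&
    increasing (c.nf.map fun w => key (wordT c.P.gens w))

variable {Γ : Type u} [Group Γ] {H : Subgroup (Equiv.Perm GolayPt)}

/-- The underlying permutation. -/
def πp (σ : Γ →* ↥H) : Γ →* Equiv.Perm GolayPt := H.subtype.comp σ

theorem πp_eq_one {σ : Γ →* ↥H} {x : Γ} : πp σ x = 1 ↔ x ∈ σ.ker := by
  show ((σ x : ↥H) : Equiv.Perm GolayPt) = 1 ↔ _
  rw [OneMemClass.coe_eq_one, MonoidHom.mem_ker]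

theorem wordT_spec' {ok : List ℕ → Bool} (hok : Sound H ok) {c : Cert} (hc : c.checkPres ok = true)
    {σ : Γ →* ↥H} {L : ℕ → Γ} (hL : ∀ i, πp σ (L i) = permOf (c.P.gens.getD i idTab)) (w : List ℕ) :
    validTab (wordT c.P.gens w) = true ∧ πp σ (wordE L w) = permOf (wordT c.P.gens w) := by
  induction w with
  | nil => exact ⟨(CfsgLib.M23Coh.okTab_spec CfsgLib.M23Coh.idTab_ok).1, by rw [wordT, List.foldr_nil, permOf_idTab]; exact map_one _⟩
  | cons a r ih =>
    have hv : validTab (c.P.gens.getD a idTab) = true := by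
      by_cases ha : a < c.P.gens.length
      · rw [List.getD_eq_getElem _ _ ha]
        simp only [Cert.checkPres, Bool.and_eq_true, List.all_eq_true] at hc
        exact (hok _ (hc.1.1 _ (List.getElem_mem _))).1
      · rw [List.getD_eq_default _ _ (not_lt.1 ha)]; decide +kernel
    obtain ⟨hv', he⟩ := mulTab_spec hv ih.1
    refine ⟨hv', ?_⟩
    show πp σ (L a * wordE L r) = permOf (mulTab _ (wordT c.P.gens r))
    rw [map_mul, he, hL a, ih.2]

/-- Evaluation of a coefficient vector. -/
def evl (p K : ℕ) (x : ℕ → ZMod p) (f : ℕ → ℕ) : ZMod p := ∑ k ∈ Finset.range K, (f k : ZMod p) * x k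

theorem evl_add (p K : ℕ) (x : ℕ → ZMod p) (f g : ℕ → ℕ) :
    evl p K x (fun k => f k + g k) = evl p K x f + evl p K x g := by
  simp only [evl, Nat.cast_add, add_mul, Finset.sum_add_distrib]

theorem evl_smul (p K : ℕ) (x : ℕ → ZMod p) (a : ℕ) (f : ℕ → ℕ) :
    evl p K x (fun k => a * f k) = (a : ZMod p) * evl p K x f := by
  simp only [evl, Nat.cast_mul, Finset.mul_sum, mul_assoc]

theorem evl_zero (p K : ℕ) (x : ℕ → ZMod p) : evl p K x (fun _ => 0) = 0 := by simp [evl]

theorem evl_single (p K : ℕ) (x : ℕ → ZMod p) {j : ℕ} (hj : j < K) (a : ℕ) :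
    evl p K x (fun k => bif Nat.beq j k then a else 0) = (a : ZMod p) * x j := by
  rw [evl, Finset.sum_eq_single j]
  · rw [show Nat.beq j j = true from Nat.beq_eq ▸ rfl]; rfl
  · intro k _ hk
    have : Nat.beq j k = false := by
      rw [Bool.eq_false_iff, ne_eq, Nat.beq_eq]; exact Ne.symm hk
    rw [this]; simp
  · intro h; exact absurd (Finset.mem_range.2 hj) h

theorem cast_pred (p : ℕ) (hp : 1 ≤ p) : ((p - 1 : ℕ) : ZMod p) = -1 := by
  rw [Nat.cast_sub hp, ZMod.natCast_self, Nat.cast_one, zero_sub]

/-- There is no cover whose kernel lies in the commutator subgroup, given a certificate. -/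
theorem no_cover [Finite Γ] {ok : List ℕ → Bool} (hok : Sound H ok) {c : Cert} (hp : c.p.Prime)
    (h1 : c.checkPres ok = true) (h2 : c.checkEqs = true) (h3 : c.checkSol = true)
    (h4 : c.checkShape = true) (h5 : c.checkNF = true) (hsyl : ¬ c.p ∣ Nat.card H / c.p ^ c.n)
    {σ : Γ →* ↥H} {e : Γ} (hcov : PrimeCover σ e c.p) (hst : e ∈ commutator Γ) : False := by
  classical
  haveI := Fact.mk hp
  haveI : NeZero c.p := ⟨hp.ne_zero⟩
  set p := c.p with hpdef
  -- coordinates on the kernel
  let E : ZMod p → Γ := fun a => e ^ a.val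
  have hE0 : e ^ p = 1 := hcov.pow_ker hcov.e_mem
  have hEadd : ∀ a b, E (a + b) = E a * E b := fun a b => by
    show e ^ (a + b).val = e ^ a.val * e ^ b.val
    rw [ZMod.val_add, ← pow_add, ← pow_eq_pow_mod _ hE0]
  have hEker : ∀ a, E a ∈ σ.ker := fun a => pow_mem hcov.e_mem _
  have hEc : ∀ a y, y * E a = E a * y := fun a y => hcov.comm y (hEker a)
  have hEsurj : ∀ z ∈ σ.ker, ∃ a, E a = z := by
    intro z hz
    rw [hcov.gen, Subgroup.mem_zpowers_iff] at hz
    obtain ⟨i, rfl⟩ := hz
    refine ⟨(i : ZMod p), ?_⟩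
    show e ^ ((i : ZMod p)).val = e ^ i
    rw [← zpow_natCast, ZMod.val_intCast]
    conv_rhs => rw [← Int.emod_add_mul_ediv i p, zpow_add, zpow_mul, zpow_natCast, hE0, one_zpow, mul_one]
  have hE1 : E 0 = 1 := by show e ^ (0 : ZMod p).val = 1; rw [ZMod.val_zero, pow_zero]
  have hEneg : ∀ a, E (-a) = (E a)⁻¹ := fun a => by
    rw [eq_inv_iff_mul_eq_one, ← hEadd, neg_add_cancel, hE1]
  have hEinj : ∀ a, E a = 1 → a = 0 := fun a ha => by
    change e ^ a.val = 1 at ha
    have hdvd : p ∣ a.val := by
      have h := orderOf_dvd_of_pow_eq_one ha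
      rwa [hcov.order] at h
    exact (ZMod.val_eq_zero a).1 (Nat.eq_zero_of_dvd_of_lt hdvd (ZMod.val_lt a))
  -- lifts
  simp only [Cert.checkPres, Bool.and_eq_true, List.all_eq_true, Nat.ble_eq, beq_iff_eq] at h1
  have hmem : ∀ i, permOf (c.P.gens.getD i idTab) ∈ H := by
    intro i
    by_cases hi : i < c.P.gens.length
    · rw [List.getD_eq_getElem _ _ hi]; exact (hok _ (h1.1.1 _ (List.getElem_mem _))).2
    · rw [List.getD_eq_default _ _ (not_lt.1 hi), permOf_idTab]; exact one_mem H
  choose L hL using fun i => hcov.surj ⟨_, hmem i⟩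
  have hπL : ∀ i, πp σ (L i) = permOf (c.P.gens.getD i idTab) := fun i => congrArg Subtype.val (hL i)
  have hpres : c.checkPres ok = true := by
    simp only [Cert.checkPres, Bool.and_eq_true, List.all_eq_true, Nat.ble_eq, beq_iff_eq]; exact h1
  have hrelmem : ∀ k, wordE L (c.P.rels.getD k ([], [])).1 * (wordE L (c.P.rels.getD k ([], [])).2)⁻¹ ∈ σ.ker := by
    intro k
    rw [← πp_eq_one, map_mul, map_inv, (wordT_spec' hok hpres hπL _).2, (wordT_spec' hok hpres hπL _).2,
      mul_inv_eq_one]
    by_cases hk : k < c.P.rels.length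
    · rw [List.getD_eq_getElem _ _ hk, h1.2 _ (List.getElem_mem _)]
    · rw [List.getD_eq_default _ _ (not_lt.1 hk)]
  choose x hx using fun k => hEsurj _ (hrelmem k)
  set K := c.P.rels.length
  -- derivations
  have hpath : ∀ (q : List Step) (w wf : List ℕ), endWord c.P q w = some wf →
      wordE L w = E (evl p K x (coef p q)) * wordE L wf := by
    intro q
    induction q with
    | nil =>
      intro w wf h
      simp only [endWord, Option.some.injEq] at h
      subst h
      rw [show coef p [] = fun _ => 0 from rfl, evl_zero, hE1, one_mul]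
    | cons s r ih =>
      intro w wf h
      simp only [endWord] at h
      split at h
      · simp at h
      rename_i w' u hs
      obtain ⟨k, b, pos⟩ := s
      simp only [applyStep] at hs
      set rr := c.P.rels.getD k ([], []) with hrr
      set l := (bif b then rr.2 else rr.1) with hl
      set m := (bif b then rr.1 else rr.2) with hm
      cases hc : (Nat.blt k c.P.rels.length && (List.take l.length (w.drop pos) == l))
      · rw [hc] at hs; simp at hs
      rw [hc] at hs
      simp only [cond_true, Option.some.injEq, Prod.mk.injEq] at hs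
      obtain ⟨rfl, -⟩ := hs
      simp only [Bool.and_eq_true, Nat.blt_eq, beq_iff_eq] at hc
      have hlm : wordE L l = E (((bif b then p - 1 else 1 : ℕ) : ZMod p) * x k) * wordE L m := by
        cases hb : b <;> simp only [hl, hm, hb, cond_true, cond_false, hrr]
        · rw [Nat.cast_one, one_mul, hx k]; group
        · rw [cast_pred p hp.one_lt.le, neg_one_mul, hEneg, hx k]; group
      have hcoef : evl p K x (coef p ((k, b, pos) :: r))
          = ((bif b then p - 1 else 1 : ℕ) : ZMod p) * x k + evl p K x (coef p r) := by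
        rw [show coef p ((k, b, pos) :: r)
          = fun j => (bif Nat.beq k j then (bif b then p - 1 else 1) else 0) + coef p r j from rfl,
          evl_add, evl_single p K x hc.1]
      rw [hcoef, hEadd, mul_assoc, ← ih _ _ h]
      conv_lhs => rw [← List.take_append_drop pos w, ← List.take_append_drop l.length (w.drop pos), hc.2]
      simp only [wordE_append, hlm]
      rw [← mul_assoc, ← mul_assoc, hEc]
      simp only [mul_assoc]
  simp only [Cert.checkEqs, List.all_eq_true] at h2
  have heq : ∀ i < c.eqs.length, evl p K x (c.eqCoef i) = 0 := by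
    intro i hi
    have h := h2 _ (List.getElem_mem hi)
    split at h
    · rename_i a b ha hb
      rw [beq_iff_eq] at h
      subst h
      have e1 := hpath _ _ _ ha
      have e2 := hpath _ _ _ hb
      have e3 := mul_right_cancel (e1.symm.trans e2)
      rw [show c.eqCoef i = fun k => coef p (c.eqs[i]).2.1 k + (p - 1) * coef p (c.eqs[i]).2.2 k by
        funext k; rw [Cert.eqCoef, List.getD_eq_getElem _ _ hi], evl_add, evl_smul, cast_pred p hp.one_lt.le]
      refine hEinj _ ?_
      rw [hEadd, neg_one_mul, hEneg, e3, mul_inv_cancel]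
    · simp at h
  -- corrected lifts
  let L' : ℕ → Γ := fun i => E (evl p K x (fun k => (c.D.getD i []).getD k 0)) * L i
  have hπL' : ∀ i, πp σ (L' i) = permOf (c.P.gens.getD i idTab) := fun i => by
    rw [show L' i = _ * L i from rfl, map_mul, πp_eq_one.2 (hEker _), one_mul, hπL]
  have hcorr : ∀ w, wordE L' w = E (evl p K x (c.dWord w)) * wordE L w := by
    intro w
    induction w with
    | nil => rw [show c.dWord [] = fun _ => 0 from rfl, evl_zero, hE1, one_mul]; rfl
    | cons i r ih =>
      rw [show c.dWord (i :: r) = fun k => (c.D.getD i []).getD k 0 + c.dWord r k from rfl, evl_add, hEadd]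
      show L' i * wordE L' r = _ * (L i * wordE L r)
      rw [ih]
      show E _ * L i * (E (evl p K x (c.dWord r)) * wordE L r) = _
      rw [mul_assoc, ← mul_assoc (L i), hEc (evl p K x (c.dWord r)) (L i)]
      simp only [mul_assoc]
  simp only [Cert.checkSol, Bool.and_eq_true, Nat.ble_eq, List.all_eq_true, List.mem_range, Nat.blt_eq,
    Nat.beq_eq] at h3
  have hrel : ∀ j < c.ns, wordE L' (c.P.rels.getD j ([], [])).1 = wordE L' (c.P.rels.getD j ([], [])).2 := by
    intro j hj
    obtain ⟨hs1, hs2⟩ := h3.2 j hj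
    have hsum : ∀ l : List (ℕ × ℕ), (∀ a ∈ l, a.1 < c.eqs.length) →
        evl p K x (fun k => (l.map fun a => a.2 * c.eqCoef a.1 k).sum) = 0 := by
      intro l
      induction l with
      | nil => intro _; simp [evl]
      | cons a r ih =>
        intro h
        simp only [List.map_cons, List.sum_cons]
        rw [evl_add, evl_smul, heq _ (h a List.mem_cons_self), mul_zero, zero_add,
          ih fun b hb => h b (List.mem_cons_of_mem _ hb)]
    have h0 : evl p K x (fun k => ((bif Nat.beq j k then 1 else 0) + c.dWord (c.P.rels.getD j ([], [])).1 k +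
        (p - 1) * c.dWord (c.P.rels.getD j ([], [])).2 k +
        (p - 1) * ((c.sol.getD j []).map fun a => a.2 * c.eqCoef a.1 k).sum)) = 0 := by
      refine Finset.sum_eq_zero fun k hk => ?_
      rw [← ZMod.natCast_mod, hs2 k (Finset.mem_range.1 hk), Nat.cast_zero, zero_mul]
    rw [evl_add, evl_add, evl_add, evl_smul, evl_smul, hsum _ hs1, mul_zero, add_zero, cast_pred p hp.one_lt.le,
      evl_single p K x (lt_of_lt_of_le hj h3.1), Nat.cast_one, one_mul, neg_one_mul] at h0
    rw [hcorr, hcorr]
    have e1 : wordE L (c.P.rels.getD j ([], [])).1 = E (x j) * wordE L (c.P.rels.getD j ([], [])).2 := by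
      rw [hx j]; group
    rw [e1, ← mul_assoc, ← hEadd]
    refine congrArg (fun a => E a * _) ?_
    linear_combination h0
  -- the subgroup generated by the corrected lifts
  simp only [Cert.checkShape, Bool.and_eq_true, List.all_eq_true, List.mem_range, List.any_eq_true,
    Bool.or_eq_true, Nat.ble_eq, Nat.blt_eq, beq_iff_eq] at h4
  let A : ℕ → Subgroup Γ := fun i => Subgroup.closure (L' '' {s | i ≤ s ∧ s < c.n})
  have hword : ∀ i (w : List ℕ), (∀ s ∈ w, i ≤ s ∧ s < c.n) → wordE L' w ∈ A i := by
    intro i w
    induction w with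
    | nil => intro _; exact one_mem _
    | cons a r ih =>
      intro h
      exact mul_mem (Subgroup.subset_closure ⟨a, h a List.mem_cons_self, rfl⟩)
        (ih fun s hs => h s (List.mem_cons_of_mem _ hs))
  have hlayer : ∀ i < c.n, Nat.card (A i) ≤ p * Nat.card (A (i + 1)) := by
    intro i hi
    obtain ⟨⟨j, hj, hpw, hpt⟩, hcm⟩ := h4 i hi
    have hpow : L' i ^ p ∈ A (i + 1) := by
      have h := hrel j hj
      rw [hpw] at h
      have hrep : ∀ q : ℕ, wordE L' (List.replicate q i) = L' i ^ q := by
        intro q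
        induction q with
        | zero => simp [wordE]
        | succ q ih => rw [List.replicate_succ, pow_succ', ← ih]; rfl
      rw [← hrep, h]
      exact hword _ _ hpt
    have hconj : ∀ a ∈ A (i + 1), (L' i)⁻¹ * a * L' i ∈ A (i + 1) := by
      intro a ha
      induction ha using Subgroup.closure_induction with
      | mem y hy =>
        obtain ⟨m, ⟨hm1, hm2⟩, rfl⟩ := hy
        obtain ⟨j', hj', hl', hr'⟩ := (hcm m hm2).resolve_left (by omega)
        have h := hrel j' hj'
        rw [hl'] at h
        split at hr'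
        · simp at hr'
        rename_i hd tl hsp
        simp only [Bool.and_eq_true, Nat.beq_eq, List.all_eq_true, Nat.blt_eq] at hr'
        rw [hsp, hr'.1] at h
        change L' m * (L' i * 1) = L' i * wordE L' tl at h
        rw [mul_one] at h
        rw [mul_assoc, h, inv_mul_cancel_left]
        exact hword _ _ fun s hs => ⟨(hr'.2 s hs).1, (hr'.2 s hs).2⟩
      | one => simp
      | mul y z _ _ hy hz =>
        rw [show (L' i)⁻¹ * (y * z) * L' i = ((L' i)⁻¹ * y * L' i) * ((L' i)⁻¹ * z * L' i) by group]
        exact mul_mem hy hz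
      | inv y _ hy =>
        rw [show (L' i)⁻¹ * y⁻¹ * L' i = ((L' i)⁻¹ * y * L' i)⁻¹ by group]
        exact inv_mem hy
    have hconjp : ∀ (q : ℕ), ∀ a ∈ A (i + 1), (L' i ^ q)⁻¹ * a * L' i ^ q ∈ A (i + 1) := by
      intro q
      induction q with
      | zero => intro a ha; simpa using ha
      | succ q ih =>
        intro a ha
        rw [show (L' i ^ (q + 1))⁻¹ * a * L' i ^ (q + 1)
          = (L' i)⁻¹ * ((L' i ^ q)⁻¹ * a * L' i ^ q) * L' i by rw [pow_succ]; group]
        exact hconj _ (ih a ha)
    have hsub : (A i : Set Γ) ⊆ (fun q : Fin p × A (i + 1) => L' i ^ q.1.val * (q.2 : Γ)) '' Set.univ := by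
      intro a ha
      have ha' : a ∈ Submonoid.closure (L' '' {s | i ≤ s ∧ s < c.n}) := by
        rw [← Subgroup.closure_toSubmonoid_of_finite]; exact ha
      induction ha' using Submonoid.closure_induction_left with
      | one => exact ⟨(⟨0, hp.pos⟩, 1), trivial, by simp⟩
      | mul_left y hy z hz ih =>
        obtain ⟨s, ⟨hs1, hs2⟩, rfl⟩ := hy
        obtain ⟨⟨⟨q, hq⟩, b⟩, -, rfl⟩ := ih ((SetLike.mem_coe).2
          (Submonoid.closure_le.2 Subgroup.subset_closure hz))
        rcases eq_or_lt_of_le hs1 with rfl | hlt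
        · by_cases hq' : q + 1 < p
          · refine ⟨(⟨q + 1, hq'⟩, b), trivial, ?_⟩
            show L' i ^ (q + 1) * (b : Γ) = L' i * (L' i ^ q * (b : Γ))
            rw [pow_succ', mul_assoc]
          · refine ⟨(⟨0, hp.pos⟩, ⟨L' i ^ p * (b : Γ), mul_mem hpow b.2⟩), trivial, ?_⟩
            simp only [pow_zero, one_mul]
            rw [← mul_assoc, ← pow_succ', show q + 1 = p by omega]
        · refine ⟨(⟨q, hq⟩, ⟨((L' i ^ q)⁻¹ * L' s * L' i ^ q) * (b : Γ),
            mul_mem (hconjp q _ (Subgroup.subset_closure ⟨s, ⟨hlt, hs2⟩, rfl⟩)) b.2⟩), trivial, ?_⟩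
          simp only
          group
    have h := Set.ncard_le_ncard hsub (Set.toFinite _)
    rw [← Nat.card_coe_set_eq] at h
    refine h.trans ((Set.ncard_image_le (Set.toFinite _)).trans ?_)
    rw [Set.ncard_univ, Nat.card_prod, Nat.card_eq_fintype_card, Fintype.card_fin]
  have hbound : ∀ d i, i + d = c.n → Nat.card (A i) ≤ p ^ d := by
    intro d
    induction d with
    | zero =>
      intro i hi
      have : A i = ⊥ := by
        show Subgroup.closure _ = ⊥
        rw [Subgroup.closure_eq_bot_iff]
        rintro _ ⟨s, ⟨h1, h2⟩, rfl⟩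
        omega
      rw [this, Subgroup.card_bot, pow_zero]
    | succ d ih =>
      intro i hi
      refine (hlayer i (by omega)).trans ?_
      rw [pow_succ']
      exact Nat.mul_le_mul_left _ (ih (i + 1) (by omega))
  simp only [Cert.checkNF, Bool.and_eq_true, Nat.beq_eq, List.all_eq_true, Nat.blt_eq] at h5
  set A0 := A 0
  set S := A0.map σ
  have hScard : p ^ c.n ≤ Nat.card S := by
    let f : List ℕ → ↥H := fun w => σ (wordE L' w)
    have hnd : (c.nf.map f).Nodup := by
      have hk := increasing_nodup _ h5.2
      refine (List.nodup_map_iff_inj_on (List.Nodup.of_map _ hk)).2 fun u hu v hv huv => ?_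
      refine List.inj_on_of_nodup_map hk hu hv ?_
      have e1 := wordT_spec' hok hpres hπL' u
      have e2 := wordT_spec' hok hpres hπL' v
      have e : permOf (wordT c.P.gens u) = permOf (wordT c.P.gens v) := by
        rw [← e1.2, ← e2.2]; exact congrArg Subtype.val huv
      obtain ⟨l1, -, -⟩ := validTab_bound e1.1
      obtain ⟨l2, -, -⟩ := validTab_bound e2.1
      refine congrArg key (List.ext_getElem (l1.trans l2.symm) fun i h1 h2 => ?_)
      have k1 := idx_permOf e1.1 (pt ⟨i, l1 ▸ h1⟩)
      have k2 := idx_permOf e2.1 (pt ⟨i, l1 ▸ h1⟩)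
      rw [e, k2, idx_pt, List.getD_eq_getElem _ _ h2, List.getD_eq_getElem _ _ h1] at k1
      exact k1.symm
    have hsub : ((c.nf.map f).toFinset : Set ↥H) ⊆ (S : Set ↥H) := by
      intro y hy
      simp only [List.coe_toFinset, Set.mem_ofPred_eq, List.mem_map] at hy
      obtain ⟨w, hw, rfl⟩ := hy
      exact ⟨_, hword 0 w (fun s hs => ⟨Nat.zero_le s, h5.1.2 w hw s hs⟩), rfl⟩
    have h := Set.ncard_le_ncard hsub (Set.toFinite _)
    rw [Set.ncard_coe_finset, List.toFinset_card_of_nodup hnd, List.length_map, h5.1.1] at h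
    rwa [← Nat.card_coe_set_eq] at h
  have hA0 : Nat.card A0 ≤ p ^ c.n := hbound c.n 0 (Nat.zero_add _)
  have hsurjA : Function.Surjective (σ.subgroupMap A0) := σ.subgroupMap_surjective A0
  have hSle : Nat.card S ≤ Nat.card A0 := Nat.card_le_card_of_surjective _ hsurjA
  have hScard' : Nat.card S = p ^ c.n := le_antisymm (hSle.trans hA0) hScard
  have hinjA : Function.Injective (σ.subgroupMap A0) :=
    ((Nat.bijective_iff_surjective_and_card _).2 ⟨hsurjA, le_antisymm (hA0.trans hScard) hSle⟩).1
  have hSp : IsPGroup p S := IsPGroup.of_card hScard'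
  have hidx : ¬ p ∣ S.index := by
    have h := Subgroup.card_mul_index S
    rw [hScard'] at h
    rw [← h, Nat.mul_div_cancel_left _ (pow_pos hp.pos _)] at hsyl
    exact hsyl
  have hcom := hcov.mem_commutator hst (hSp.toSylow hidx)
  have hle : ⁅S.comap σ, S.comap σ⁆ ≤ A0 := by
    rw [Subgroup.commutator_le]
    intro a ha b hb
    obtain ⟨a', ha', hea⟩ := ha
    obtain ⟨b', hb', heb⟩ := hb
    rw [hcov.comm_eq hea.symm heb.symm, commutatorElement_def]
    exact mul_mem (mul_mem (mul_mem ha' hb') (inv_mem ha')) (inv_mem hb')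
  have he : e ∈ A0 := hle hcom
  have : (⟨e, he⟩ : A0) = 1 := hinjA (Subtype.ext (by
    show σ e = σ 1
    rw [map_one, MonoidHom.mem_ker.1 hcov.e_mem]))
  have he1 : e = 1 := congrArg Subtype.val this
  have := hcov.order
  rw [he1, orderOf_one] at this
  exact hp.ne_one this.symm

/-- The inverse image of a cyclic Sylow subgroup is abelian, so there is no cover. -/
theorem no_cover_of_cyclic {G : Type*} [Group G] [Finite G] {Δ : Type u} [Group Δ] [Finite Δ] {p : ℕ}
    [hp : Fact p.Prime] (h : ¬ p ^ 2 ∣ Nat.card G) {τ : Δ →* G} {e : Δ} (hcov : PrimeCover τ e p)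
    (hst : e ∈ commutator Δ) : False := by
  classical
  let Q : Sylow p G := default
  have hc : IsCyclic (Q : Subgroup G) := by
    obtain ⟨k, hk⟩ := IsPGroup.iff_card.1 Q.2
    have hk1 : k ≤ 1 := by
      by_contra hk2
      exact h ((pow_dvd_pow p (by omega : 2 ≤ k)).trans (hk ▸ Subgroup.card_subgroup_dvd_card _))
    rcases Nat.le_one_iff_eq_zero_or_eq_one.1 hk1 with rfl | rfl
    · haveI : Subsingleton (Q : Subgroup G) :=
        (Nat.card_eq_one_iff_unique.1 (by rw [hk, pow_zero])).1
      exact isCyclic_of_subsingleton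
    · exact isCyclic_of_prime_card (by rw [hk, pow_one])
  obtain ⟨g, hg⟩ := hc.exists_generator
  obtain ⟨y, hy⟩ := hcov.surj (g : G)
  have hcom := hcov.mem_commutator hst Q
  have hle : ⁅(Q : Subgroup G).comap τ, (Q : Subgroup G).comap τ⁆ ≤ ⊥ := by
    rw [Subgroup.commutator_le]
    intro a ha b hb
    rw [Subgroup.mem_bot]
    obtain ⟨i, hi⟩ := Subgroup.mem_zpowers_iff.1 (hg ⟨τ a, ha⟩)
    obtain ⟨j, hj⟩ := Subgroup.mem_zpowers_iff.1 (hg ⟨τ b, hb⟩)
    have ei : τ a = τ (y ^ i) := by
      rw [map_zpow, hy, ← Subgroup.coe_zpow, hi]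
    have ej : τ b = τ (y ^ j) := by
      rw [map_zpow, hy, ← Subgroup.coe_zpow, hj]
    rw [hcov.comm_eq ei ej, commutatorElement_eq_one_iff_mul_comm, ← zpow_add, add_comm, zpow_add]
  have := hle hcom
  rw [Subgroup.mem_bot] at this
  have ho := hcov.order
  rw [this, orderOf_one] at ho
  exact hp.out.ne_one ho.symm

end CfsgLib.SchurCert
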