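/-
Central extensions of a group whose chosen generators of a Sylow subgroup satisfy certified
relations: linear consequences of pairs of derivations, a criterion for splitting in terms of one
linear form, and the bound two on a kernel of two-power order.
-/
import Cfsg.Agent.SchurCert.Basic
import Cfsg.Agent.Schur.CoprimeLift

set_option autoImplicit false
set_option maxRecDepth 100000

namespace CfsgLib.SchurCert

open Cfsg CfsgLib.Schur
open CfsgLib.M23Coh (Pres Step applyStep wordE wordE_append)
open scoped commutatorElement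

universe u v

/-- A certificate for a prime, independent of the model of the group. -/
structure GCert where
  /-- The prime. -/
  p : ℕ
  /-- Number of generators of the Sylow subgroup; its order is `p ^ n`. -/
  n : ℕ
  /-- Relations among the generators. -/
  rels : List (List ℕ × List ℕ)
  /-- Pairs of derivations. -/
  eqs : List (List ℕ × List Step × List Step)
  /-- Corrections of the first `n` lifts. -/
  D : List (List ℕ)
  /-- The remaining linear form. -/
  phi : List ℕ
  /-- For the first relations: the multiple of the form and the multiples of the equations. -/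
  sol : List (ℕ × List (ℕ × ℕ))
  /-- Words for the elements of the Sylow subgroup. -/
  nf : List (List ℕ)

/-- The presentation used by the derivations. -/
def GCert.P (c : GCert) : Pres := ⟨[], c.rels⟩

/-- The coefficient of an equation for a modulus. -/
def GCert.eqCoef (c : GCert) (m i k : ℕ) : ℕ :=
  coef m (c.eqs.getD i ([], [], [])).2.1 k + (m - 1) * coef m (c.eqs.getD i ([], [], [])).2.2 k

/-- The coefficient of the correction of a word. -/
def GCert.dWord (c : GCert) : List ℕ → ℕ → ℕ
  | [], _ => 0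
  | i :: r, k => (c.D.getD i []).getD k 0 + c.dWord r k

/-- The coefficient of the form. -/
def GCert.phiC (c : GCert) (k : ℕ) : ℕ := c.phi.getD k 0

/-- Derivations from a common word with a common end. -/
def GCert.checkEqs (c : GCert) : Bool :=
  c.eqs.all fun e =>
    match endWord c.P e.2.1 e.1, endWord c.P e.2.2 e.1 with
    | some a, some b => a == b
    | _, _ => false

/-- Every corrected relator is a multiple of the form modulo the derived equations. -/
def GCert.checkSol (c : GCert) : Bool :=
  Nat.ble c.sol.length c.rels.length && (List.range c.sol.length).all fun j =>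
    (c.sol.getD j (0, [])).2.all (fun a => Nat.blt a.1 c.eqs.length) &&
    (List.range c.rels.length).all fun k =>
      Nat.beq (((bif Nat.beq j k then 1 else 0) + c.dWord (c.rels.getD j ([], [])).1 k +
        (c.p - 1) * c.dWord (c.rels.getD j ([], [])).2 k +
        (c.p - 1) * ((c.sol.getD j (0, [])).1 * c.phiC k) +
        (c.p - 1) * ((c.sol.getD j (0, [])).2.map fun a => a.2 * c.eqCoef c.p a.1 k).sum) % c.p) 0

/-- A power and commutation relation for each pair. -/
def GCert.checkShape (c : GCert) : Bool :=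
  (List.range c.n).all fun i =>
    ((List.range c.sol.length).any fun j =>
      (c.rels.getD j ([], [])).1 == List.replicate c.p i &&
        (c.rels.getD j ([], [])).2.all fun s => Nat.blt i s && Nat.blt s c.n) &&
    (List.range c.n).all fun m =>
      Nat.ble m i || (List.range c.sol.length).any fun j =>
        (c.rels.getD j ([], [])).1 == [m, i] &&
          match (c.rels.getD j ([], [])).2 with
          | [] => false
          | h :: t => Nat.beq h i && t.all fun s => Nat.blt i s && Nat.blt s c.n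

/-- The listed words are in the first generators and number `p ^ n`. -/
def GCert.checkNF (c : GCert) : Bool :=
  Nat.beq c.nf.length (c.p ^ c.n) && c.nf.all fun w => w.all fun s => Nat.blt s c.n

/-- Twice the form vanishes modulo four, given the equations. -/
def GCert.checkFour (c : GCert) (four : List (ℕ × ℕ)) : Bool :=
  four.all (fun a => Nat.blt a.1 c.eqs.length) && (List.range c.rels.length).all fun k =>
    Nat.beq (((four.map fun a => a.2 * c.eqCoef 4 a.1 k).sum + 2 * c.phiC k) % 4) 0

/-- The form is zero. -/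
def GCert.phiZero (c : GCert) : Bool :=
  (List.range c.rels.length).all fun k => Nat.beq (c.phiC k) 0

variable {G : Type u} [Group G] {Γ : Type v} [Group Γ]

/-- The relator of a relation in the lifts. -/
def GCert.rlt (c : GCert) (L : ℕ → Γ) (k : ℕ) : Γ :=
  wordE L (c.rels.getD k ([], [])).1 * (wordE L (c.rels.getD k ([], [])).2)⁻¹

theorem map_wordE {H : Type*} [Group H] (f : Γ →* H) (L : ℕ → Γ) (w : List ℕ) :
    f (wordE L w) = wordE (fun i => f (L i)) w := by
  induction w with
  | nil => exact map_one f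
  | cons a r ih => show f (L a * wordE L r) = _; rw [map_mul, ih]; rfl

theorem GCert.map_rlt {H : Type*} [Group H] (c : GCert) (f : Γ →* H) (L : ℕ → Γ) (k : ℕ) :
    f (c.rlt L k) = c.rlt (fun i => f (L i)) k := by
  rw [GCert.rlt, map_mul, map_inv, map_wordE, map_wordE]; rfl

theorem GCert.rlt_mem (c : GCert) {gel : ℕ → G}
    (hrels : ∀ r ∈ c.rels, wordE gel r.1 = wordE gel r.2) {σ : Γ →* G} {L : ℕ → Γ}
    (hL : ∀ i, σ (L i) = gel i) (k : ℕ) : c.rlt L k ∈ σ.ker := by
  rw [MonoidHom.mem_ker, c.map_rlt, funext hL, GCert.rlt, mul_inv_eq_one]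
  by_cases hk : k < c.rels.length
  · rw [List.getD_eq_getElem _ _ hk]; exact hrels _ (List.getElem_mem _)
  · rw [List.getD_eq_default _ _ (not_lt.1 hk)]

section coords

variable {σ : Γ →* G} {e : Γ} {m : ℕ} [NeZero m]

/-- The kernel element with a given coordinate. -/
def cE (e : Γ) {m : ℕ} (a : ZMod m) : Γ := e ^ a.val

variable (hcov : PrimeCover σ e m)
include hcov

theorem cE_add (a b : ZMod m) : cE e (a + b) = cE e a * cE e b := by
  show e ^ (a + b).val = e ^ a.val * e ^ b.val
  rw [ZMod.val_add, ← pow_add, ← pow_eq_pow_mod _ (hcov.pow_ker hcov.e_mem)]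

omit hcov in
theorem cE_zero : cE e (0 : ZMod m) = 1 := by show e ^ (0 : ZMod m).val = 1; rw [ZMod.val_zero, pow_zero]

theorem cE_neg (a : ZMod m) : cE e (-a) = (cE e a)⁻¹ := by
  rw [eq_inv_iff_mul_eq_one, ← cE_add hcov, neg_add_cancel, cE_zero]

theorem cE_inj {a : ZMod m} (ha : cE e a = 1) : a = 0 := by
  have hdvd : m ∣ a.val := by
    have h := orderOf_dvd_of_pow_eq_one (ha : e ^ a.val = 1)
    rwa [hcov.order] at h
  exact (ZMod.val_eq_zero a).1 (Nat.eq_zero_of_dvd_of_lt hdvd (ZMod.val_lt a))

theorem cE_mem (a : ZMod m) : cE e a ∈ σ.ker := pow_mem hcov.e_mem _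

theorem cE_comm (a : ZMod m) (y : Γ) : y * cE e a = cE e a * y := hcov.comm y (cE_mem hcov a)

theorem cE_surj {z : Γ} (hz : z ∈ σ.ker) : ∃ a : ZMod m, cE e a = z := by
  rw [hcov.gen, Subgroup.mem_zpowers_iff] at hz
  obtain ⟨i, rfl⟩ := hz
  refine ⟨(i : ZMod m), ?_⟩
  show e ^ ((i : ZMod m)).val = e ^ i
  rw [← zpow_natCast, ZMod.val_intCast]
  conv_rhs => rw [← Int.emod_add_mul_ediv i m, zpow_add, zpow_mul, zpow_natCast,
    hcov.pow_ker hcov.e_mem, one_zpow, mul_one]

theorem cE_natCast (n : ℕ) : cE e (n : ZMod m) = e ^ n := by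
  show e ^ (n : ZMod m).val = e ^ n
  rw [ZMod.val_natCast, ← pow_eq_pow_mod _ (hcov.pow_ker hcov.e_mem)]

/-- The derived equations hold for the coordinates of the relators. -/
theorem GCert.eqs_hold (c : GCert) (h2 : c.checkEqs = true) (L : ℕ → Γ) (x : ℕ → ZMod m)
    (hx : ∀ k, cE e (x k) = c.rlt L k) :
    ∀ i < c.eqs.length, evl m c.rels.length x (c.eqCoef m i) = 0 := by
  have hm : 1 ≤ m := NeZero.one_le
  set K := c.rels.length with hK
  have hpath : ∀ (q : List Step) (w wf : List ℕ), endWord c.P q w = some wf →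
      wordE L w = cE e (evl m K x (coef m q)) * wordE L wf := by
    intro q
    induction q with
    | nil =>
      intro w wf h
      simp only [endWord, Option.some.injEq] at h
      subst h
      rw [show coef m [] = fun _ => 0 from rfl, evl_zero, cE_zero, one_mul]
    | cons s r ih =>
      intro w wf h
      simp only [endWord] at h
      split at h
      · simp at h
      rename_i w' u hs
      obtain ⟨k, b, pos⟩ := s
      simp only [applyStep, GCert.P] at hs
      set rr := c.rels.getD k ([], []) with hrr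
      set l := (bif b then rr.2 else rr.1) with hl
      set mm := (bif b then rr.1 else rr.2) with hmm
      cases hc : (Nat.blt k c.rels.length && (List.take l.length (w.drop pos) == l))
      · rw [hc] at hs; simp at hs
      rw [hc] at hs
      simp only [cond_true, Option.some.injEq, Prod.mk.injEq] at hs
      obtain ⟨rfl, -⟩ := hs
      simp only [Bool.and_eq_true, Nat.blt_eq, beq_iff_eq] at hc
      have hlm : wordE L l = cE e (((bif b then m - 1 else 1 : ℕ) : ZMod m) * x k) * wordE L mm := by
        cases hb : b <;> simp only [hl, hmm, hb, cond_true, cond_false, hrr]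
        · rw [Nat.cast_one, one_mul, hx k, GCert.rlt]; group
        · rw [cast_pred m hm, neg_one_mul, cE_neg hcov, hx k, GCert.rlt]; group
      have hcoef : evl m K x (coef m ((k, b, pos) :: r))
          = ((bif b then m - 1 else 1 : ℕ) : ZMod m) * x k + evl m K x (coef m r) := by
        rw [show coef m ((k, b, pos) :: r)
          = fun j => (bif Nat.beq k j then (bif b then m - 1 else 1) else 0) + coef m r j from rfl,
          evl_add, evl_single m K x (hK ▸ hc.1)]
      rw [hcoef, cE_add hcov, mul_assoc, ← ih _ _ h]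
      conv_lhs => rw [← List.take_append_drop pos w, ← List.take_append_drop l.length (w.drop pos), hc.2]
      simp only [wordE_append, hlm]
      rw [← mul_assoc, ← mul_assoc, cE_comm hcov]
      simp only [mul_assoc]
  intro i hi
  simp only [GCert.checkEqs, List.all_eq_true] at h2
  have h := h2 _ (List.getElem_mem hi)
  split at h
  · rename_i a b ha hb
    rw [beq_iff_eq] at h
    subst h
    have e1 := hpath _ _ _ ha
    have e2 := hpath _ _ _ hb
    have e3 := mul_right_cancel (e1.symm.trans e2)
    rw [show c.eqCoef m i = fun k => coef m (c.eqs[i]).2.1 k + (m - 1) * coef m (c.eqs[i]).2.2 k by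
      funext k; rw [GCert.eqCoef, List.getD_eq_getElem _ _ hi], evl_add, evl_smul, cast_pred m hm]
    refine cE_inj hcov ?_
    rw [cE_add hcov, neg_one_mul, cE_neg hcov, e3, mul_inv_cancel]
  · simp at h

theorem evl_sum_eqs (c : GCert) (h2 : c.checkEqs = true) (L : ℕ → Γ) (x : ℕ → ZMod m)
    (hx : ∀ k, cE e (x k) = c.rlt L k) (l : List (ℕ × ℕ)) (hl : ∀ a ∈ l, a.1 < c.eqs.length) :
    evl m c.rels.length x (fun k => (l.map fun a => a.2 * c.eqCoef m a.1 k).sum) = 0 := by
  induction l with
  | nil => simp [evl]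
  | cons a r ih =>
    simp only [List.map_cons, List.sum_cons]
    rw [evl_add, evl_smul, c.eqs_hold hcov h2 L x hx _ (hl a List.mem_cons_self), mul_zero, zero_add,
      ih fun b hb => hl b (List.mem_cons_of_mem _ hb)]

end coords

/-- The splitting checks. -/
structure GCert.Ok (c : GCert) (gel : ℕ → G) : Prop where
  prime : c.p.Prime
  rels : ∀ r ∈ c.rels, wordE gel r.1 = wordE gel r.2
  eqs : c.checkEqs = true
  sol : c.checkSol = true
  shape : c.checkShape = true
  nfs : c.checkNF = true
  nodup : (c.nf.map (wordE gel)).Nodup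
  sylow : ¬ c.p ∣ Nat.card G / c.p ^ c.n

/-- The splitting conditions, with the order of the Sylow subgroup given from below. -/
structure GCert.Core (c : GCert) (gel : ℕ → G) : Prop where
  prime : c.p.Prime
  rels : ∀ r ∈ c.rels, wordE gel r.1 = wordE gel r.2
  eqs : c.checkEqs = true
  sol : c.checkSol = true
  shape : c.checkShape = true
  big : c.p ^ c.n ≤ Nat.card (Subgroup.closure (gel '' {s | s < c.n}))
  sylow : ¬ c.p ∣ Nat.card G / c.p ^ c.n

/-- Distinct words give the lower bound. -/
theorem GCert.Ok.toCore [Finite G] {c : GCert} {gel : ℕ → G} (hc : c.Ok gel) : c.Core gel := by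
  classical
  refine ⟨hc.prime, hc.rels, hc.eqs, hc.sol, hc.shape, ?_, hc.sylow⟩
  have h5 := hc.nfs
  simp only [GCert.checkNF, Bool.and_eq_true, Nat.beq_eq, List.all_eq_true, Nat.blt_eq] at h5
  set S := Subgroup.closure (gel '' {s | s < c.n})
  have hw : ∀ w : List ℕ, (∀ s ∈ w, s < c.n) → wordE gel w ∈ S := by
    intro w
    induction w with
    | nil => intro _; exact one_mem _
    | cons a r ih =>
      intro h
      exact mul_mem (Subgroup.subset_closure ⟨a, h a List.mem_cons_self, rfl⟩)
        (ih fun s hs => h s (List.mem_cons_of_mem _ hs))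
  have hsub : ((c.nf.map (wordE gel)).toFinset : Set G) ⊆ (S : Set G) := by
    intro y hy
    rw [List.coe_toFinset, Set.mem_ofPred_eq, List.mem_map] at hy
    obtain ⟨w, hwm, rfl⟩ := hy
    exact hw w (h5.2 w hwm)
  have h := Set.ncard_le_ncard hsub (Set.toFinite _)
  rw [Set.ncard_coe_finset, List.toFinset_card_of_nodup hc.nodup, List.length_map, h5.1] at h
  rwa [← Nat.card_coe_set_eq] at h

/-- The form does not vanish on a cover whose kernel lies in the commutator subgroup. -/
theorem GCert.Core.split [Finite Γ] [Finite G] {c : GCert} {gel : ℕ → G} (hc : c.Core gel)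
    {σ : Γ →* G} {e : Γ} (hcov : PrimeCover σ e c.p) (hst : e ∈ commutator Γ)
    {L : ℕ → Γ} (hL : ∀ i, σ (L i) = gel i) (x : ℕ → ZMod c.p)
    (hx : ∀ k, cE e (x k) = c.rlt L k) :
    evl c.p c.rels.length x c.phiC ≠ 0 := by
  classical
  intro hphi
  obtain ⟨hp, -, h2, h3, h4, hbig, hsyl⟩ := hc
  haveI := Fact.mk hp
  haveI : NeZero c.p := ⟨hp.ne_zero⟩
  set K := c.rels.length
  let L' : ℕ → Γ := fun i => cE e (evl c.p K x (fun k => (c.D.getD i []).getD k 0)) * L i
  have hπL' : ∀ i, σ (L' i) = gel i := fun i => by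
    rw [show L' i = _ * L i from rfl, map_mul, MonoidHom.mem_ker.1 (cE_mem hcov _), one_mul, hL]
  have hcorr : ∀ w, wordE L' w = cE e (evl c.p K x (c.dWord w)) * wordE L w := by
    intro w
    induction w with
    | nil => rw [show c.dWord [] = fun _ => 0 from rfl, evl_zero, cE_zero, one_mul]; rfl
    | cons i r ih =>
      rw [show c.dWord (i :: r) = fun k => (c.D.getD i []).getD k 0 + c.dWord r k from rfl, evl_add,
        cE_add hcov]
      show L' i * wordE L' r = _ * (L i * wordE L r)
      rw [ih]
      show cE e _ * L i * (cE e (evl c.p K x (c.dWord r)) * wordE L r) = _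
      rw [mul_assoc, ← mul_assoc (L i), cE_comm hcov (evl c.p K x (c.dWord r)) (L i)]
      simp only [mul_assoc]
  simp only [GCert.checkSol, Bool.and_eq_true, Nat.ble_eq, List.all_eq_true, List.mem_range, Nat.blt_eq,
    Nat.beq_eq] at h3
  have hrel : ∀ j < c.sol.length,
      wordE L' (c.rels.getD j ([], [])).1 = wordE L' (c.rels.getD j ([], [])).2 := by
    intro j hj
    obtain ⟨hs1, hs2⟩ := h3.2 j hj
    have h0 : evl c.p K x (fun k => (bif Nat.beq j k then 1 else 0) + c.dWord (c.rels.getD j ([], [])).1 k +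
        (c.p - 1) * c.dWord (c.rels.getD j ([], [])).2 k +
        (c.p - 1) * ((c.sol.getD j (0, [])).1 * c.phiC k) +
        (c.p - 1) * ((c.sol.getD j (0, [])).2.map fun a => a.2 * c.eqCoef c.p a.1 k).sum) = 0 := by
      refine Finset.sum_eq_zero fun k hk => ?_
      rw [← ZMod.natCast_mod, hs2 k (Finset.mem_range.1 hk), Nat.cast_zero, zero_mul]
    rw [evl_add, evl_add, evl_add, evl_add, evl_smul, evl_smul, evl_smul, evl_smul,
      evl_sum_eqs hcov c h2 L x hx _ hs1, hphi, mul_zero, mul_zero, add_zero, add_zero,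
      cast_pred c.p hp.one_lt.le, evl_single c.p K x (lt_of_lt_of_le hj h3.1), Nat.cast_one, one_mul,
      neg_one_mul] at h0
    rw [hcorr, hcorr]
    have e1 : wordE L (c.rels.getD j ([], [])).1 = cE e (x j) * wordE L (c.rels.getD j ([], [])).2 := by
      rw [hx j, GCert.rlt]; group
    rw [e1, ← mul_assoc, ← cE_add hcov]
    refine congrArg (fun a => cE e a * _) ?_
    linear_combination h0
  simp only [GCert.checkShape, Bool.and_eq_true, List.all_eq_true, List.mem_range, List.any_eq_true,
    Bool.or_eq_true, Nat.ble_eq, Nat.blt_eq, beq_iff_eq] at h4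
  let A : ℕ → Subgroup Γ := fun i => Subgroup.closure (L' '' {s | i ≤ s ∧ s < c.n})
  have hword : ∀ i (w : List ℕ), (∀ s ∈ w, i ≤ s ∧ s < c.n) → wordE L' w ∈ A i := by
    intro i w
    induction w with
    | nil => intro _; exact one_mem _
    | cons a r ih =>
      intro h
      exact mul_mem (Subgroup.subset_closure ⟨a, h a List.mem_cons_self, rfl⟩)
        (ih fun s hs => h s (List.mem_cons_of_mem _ hs))
  have hlayer : ∀ i < c.n, Nat.card (A i) ≤ c.p * Nat.card (A (i + 1)) := by
    intro i hi
    obtain ⟨⟨j, hj, hpw, hpt⟩, hcm⟩ := h4 i hi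
    have hpow : L' i ^ c.p ∈ A (i + 1) := by
      have h := hrel j hj
      rw [hpw] at h
      have hrep : ∀ q : ℕ, wordE L' (List.replicate q i) = L' i ^ q := by
        intro q
        induction q with
        | zero => simp [wordE]
        | succ q ih => rw [List.replicate_succ, pow_succ', ← ih]; rfl
      rw [← hrep, h]
      exact hword _ _ hpt
    have hconj : ∀ a ∈ A (i + 1), (L' i)⁻¹ * a * L' i ∈ A (i + 1) := by
      intro a ha
      induction ha using Subgroup.closure_induction with
      | mem y hy =>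
        obtain ⟨m, ⟨hm1, hm2⟩, rfl⟩ := hy
        obtain ⟨j', hj', hl', hr'⟩ := (hcm m hm2).resolve_left (by omega)
        have h := hrel j' hj'
        rw [hl'] at h
        split at hr'
        · simp at hr'
        rename_i hd tl hsp
        simp only [Bool.and_eq_true, Nat.beq_eq, List.all_eq_true, Nat.blt_eq] at hr'
        rw [hsp, hr'.1] at h
        change L' m * (L' i * 1) = L' i * wordE L' tl at h
        rw [mul_one] at h
        rw [mul_assoc, h, inv_mul_cancel_left]
        exact hword _ _ fun s hs => ⟨(hr'.2 s hs).1, (hr'.2 s hs).2⟩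
      | one => simp
      | mul y z _ _ hy hz =>
        rw [show (L' i)⁻¹ * (y * z) * L' i = ((L' i)⁻¹ * y * L' i) * ((L' i)⁻¹ * z * L' i) by group]
        exact mul_mem hy hz
      | inv y _ hy =>
        rw [show (L' i)⁻¹ * y⁻¹ * L' i = ((L' i)⁻¹ * y * L' i)⁻¹ by group]
        exact inv_mem hy
    have hconjp : ∀ (q : ℕ), ∀ a ∈ A (i + 1), (L' i ^ q)⁻¹ * a * L' i ^ q ∈ A (i + 1) := by
      intro q
      induction q with
      | zero => intro a ha; simpa using ha
      | succ q ih =>
        intro a ha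
        rw [show (L' i ^ (q + 1))⁻¹ * a * L' i ^ (q + 1)
          = (L' i)⁻¹ * ((L' i ^ q)⁻¹ * a * L' i ^ q) * L' i by rw [pow_succ]; group]
        exact hconj _ (ih a ha)
    have hsub : (A i : Set Γ) ⊆ (fun q : Fin c.p × A (i + 1) => L' i ^ q.1.val * (q.2 : Γ)) '' Set.univ := by
      intro a ha
      have ha' : a ∈ Submonoid.closure (L' '' {s | i ≤ s ∧ s < c.n}) := by
        rw [← Subgroup.closure_toSubmonoid_of_finite]; exact ha
      induction ha' using Submonoid.closure_induction_left with
      | one => exact ⟨(⟨0, hp.pos⟩, 1), trivial, by simp⟩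
      | mul_left y hy z hz ih =>
        obtain ⟨s, ⟨hs1, hs2⟩, rfl⟩ := hy
        obtain ⟨⟨⟨q, hq⟩, b⟩, -, rfl⟩ := ih ((SetLike.mem_coe).2
          (Submonoid.closure_le.2 Subgroup.subset_closure hz))
        rcases eq_or_lt_of_le hs1 with rfl | hlt
        · by_cases hq' : q + 1 < c.p
          · refine ⟨(⟨q + 1, hq'⟩, b), trivial, ?_⟩
            show L' i ^ (q + 1) * (b : Γ) = L' i * (L' i ^ q * (b : Γ))
            rw [pow_succ', mul_assoc]
          · refine ⟨(⟨0, hp.pos⟩, ⟨L' i ^ c.p * (b : Γ), mul_mem hpow b.2⟩), trivial, ?_⟩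
            simp only [pow_zero, one_mul]
            rw [← mul_assoc, ← pow_succ', show q + 1 = c.p by omega]
        · refine ⟨(⟨q, hq⟩, ⟨((L' i ^ q)⁻¹ * L' s * L' i ^ q) * (b : Γ),
            mul_mem (hconjp q _ (Subgroup.subset_closure ⟨s, ⟨hlt, hs2⟩, rfl⟩)) b.2⟩), trivial, ?_⟩
          simp only
          group
    have h := Set.ncard_le_ncard hsub (Set.toFinite _)
    rw [← Nat.card_coe_set_eq] at h
    refine h.trans ((Set.ncard_image_le (Set.toFinite _)).trans ?_)
    rw [Set.ncard_univ, Nat.card_prod, Nat.card_eq_fintype_card, Fintype.card_fin]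
  have hbound : ∀ d i, i + d = c.n → Nat.card (A i) ≤ c.p ^ d := by
    intro d
    induction d with
    | zero =>
      intro i hi
      have : A i = ⊥ := by
        show Subgroup.closure _ = ⊥
        rw [Subgroup.closure_eq_bot_iff]
        rintro _ ⟨s, ⟨h1, h2⟩, rfl⟩
        omega
      rw [this, Subgroup.card_bot, pow_zero]
    | succ d ih =>
      intro i hi
      refine (hlayer i (by omega)).trans ?_
      rw [pow_succ']
      exact Nat.mul_le_mul_left _ (ih (i + 1) (by omega))
  set A0 := A 0
  set S := A0.map σ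
  have hScard : c.p ^ c.n ≤ Nat.card S := by
    refine hbig.trans (le_of_eq ?_)
    have hS : S = Subgroup.closure (gel '' {s | s < c.n}) := by
      show (Subgroup.closure (L' '' {s | 0 ≤ s ∧ s < c.n})).map σ = _
      rw [MonoidHom.map_closure, ← Set.image_comp]
      congr 1
      ext y
      constructor
      · rintro ⟨i, ⟨-, hi⟩, rfl⟩; exact ⟨i, hi, (hπL' i).symm⟩
      · rintro ⟨i, hi, rfl⟩; exact ⟨i, ⟨Nat.zero_le i, hi⟩, hπL' i⟩
    rw [hS]
  have hA0 : Nat.card A0 ≤ c.p ^ c.n := hbound c.n 0 (Nat.zero_add _)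
  have hsurjA : Function.Surjective (σ.subgroupMap A0) := σ.subgroupMap_surjective A0
  have hSle : Nat.card S ≤ Nat.card A0 := Nat.card_le_card_of_surjective _ hsurjA
  have hScard' : Nat.card S = c.p ^ c.n := le_antisymm (hSle.trans hA0) hScard
  have hinjA : Function.Injective (σ.subgroupMap A0) :=
    ((Nat.bijective_iff_surjective_and_card _).2 ⟨hsurjA, le_antisymm (hA0.trans hScard) hSle⟩).1
  have hSp : IsPGroup c.p S := IsPGroup.of_card hScard'
  have hidx : ¬ c.p ∣ S.index := by
    have h := Subgroup.card_mul_index S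
    rw [hScard'] at h
    rw [← h, Nat.mul_div_cancel_left _ (pow_pos hp.pos _)] at hsyl
    exact hsyl
  have hcom := hcov.mem_commutator hst (hSp.toSylow hidx)
  have hle : ⁅S.comap σ, S.comap σ⁆ ≤ A0 := by
    rw [Subgroup.commutator_le]
    intro a ha b hb
    obtain ⟨a', ha', hea⟩ := ha
    obtain ⟨b', hb', heb⟩ := hb
    rw [hcov.comm_eq hea.symm heb.symm, commutatorElement_def]
    exact mul_mem (mul_mem (mul_mem ha' hb') (inv_mem ha')) (inv_mem hb')
  have he : e ∈ A0 := hle hcom
  have : (⟨e, he⟩ : A0) = 1 := hinjA (Subtype.ext (by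
    show σ e = σ 1
    rw [map_one, MonoidHom.mem_ker.1 hcov.e_mem]))
  have he1 : e = 1 := congrArg Subtype.val this
  have := hcov.order
  rw [he1, orderOf_one] at this
  exact hp.ne_one this.symm

/-- With the form zero there is no cover. -/
theorem GCert.Core.no_cover [Finite Γ] [Finite G] {c : GCert} {gel : ℕ → G} (hc : c.Core gel)
    (h0 : c.phiZero = true) {σ : Γ →* G} {e : Γ} (hcov : PrimeCover σ e c.p)
    (hst : e ∈ commutator Γ) : False := by
  haveI : NeZero c.p := ⟨hc.prime.ne_zero⟩
  choose L hL using fun i => hcov.surj (gel i)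
  choose x hx using fun k => cE_surj (m := c.p) hcov (c.rlt_mem hc.rels hL k)
  refine hc.split hcov hst hL x hx (Finset.sum_eq_zero fun k hk => ?_)
  simp only [GCert.phiZero, List.all_eq_true, List.mem_range, Nat.beq_eq] at h0
  rw [h0 k (Finset.mem_range.1 hk), Nat.cast_zero, zero_mul]

/-- With the form zero there is no cover, from distinct words. -/
theorem GCert.Ok.no_cover [Finite Γ] [Finite G] {c : GCert} {gel : ℕ → G} (hc : c.Ok gel)
    (h0 : c.phiZero = true) {σ : Γ →* G} {e : Γ} (hcov : PrimeCover σ e c.p)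
    (hst : e ∈ commutator Γ) : False := hc.toCore.no_cover h0 hcov hst

/-- The element cut out by the form in the kernel. -/
def GCert.phiElt (c : GCert) (L : ℕ → Γ) : Γ :=
  ((List.range c.rels.length).map fun k => c.rlt L k ^ c.phiC k).prod

theorem GCert.map_phiElt {σ : Γ →* G} {e : Γ} {m : ℕ} [NeZero m] (c : GCert) (hcov : PrimeCover σ e m)
    (L : ℕ → Γ) (x : ℕ → ZMod m) (hx : ∀ k, cE e (x k) = c.rlt L k) :
    c.phiElt L = cE e (evl m c.rels.length x c.phiC) := by
  unfold GCert.phiElt evl
  induction c.rels.length with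
  | zero => rw [List.range_zero, List.map_nil, List.prod_nil, Finset.range_zero, Finset.sum_empty, cE_zero]
  | succ n ih =>
    rw [List.range_succ, List.map_append, List.prod_append, ih, Finset.sum_range_succ, cE_add hcov,
      List.map_singleton, List.prod_singleton]
    congr 1
    rw [← ZMod.natCast_zmod_val (x n), ← Nat.cast_mul, cE_natCast hcov, ← hx n, cE, ← pow_mul, mul_comm]

/-- A kernel of two-power order has order at most two. -/
theorem GCert.Ok.card_ker_dvd_two [Finite Γ] [Finite G] {c : GCert} {gel : ℕ → G} (hc : c.Ok gel)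
    (hp2 : c.p = 2) {four : List (ℕ × ℕ)} (h4 : c.checkFour four = true) {σ : Γ →* G}
    (hσ : Cfsg.IsStemExtension σ) (hodd : ∀ q, q.Prime → q ∣ Nat.card σ.ker → q = 2) :
    ∃ z, z ∈ σ.ker ∧ z ^ 2 = 1 ∧ σ.ker ≤ Subgroup.zpowers z := by
  classical
  obtain ⟨hs, hcen, hst⟩ := hσ
  choose L hL using fun i => hs (gel i)
  set z := c.phiElt L with hz
  have hzk : z ∈ σ.ker := by
    refine list_prod_mem fun y hy => ?_
    obtain ⟨k, -, rfl⟩ := List.mem_map.1 hy
    exact pow_mem (c.rlt_mem hc.rels hL k) _
  -- quotients of the kernel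
  have hquot : ∀ (N : Subgroup Γ) [N.Normal], (hN : N ≤ σ.ker) → ∀ (y : Γ), y ∈ σ.ker →
      σ.ker ≤ N ⊔ Subgroup.zpowers y → ∀ (m : ℕ), orderOf (QuotientGroup.mk' N y) = m →
      PrimeCover (QuotientGroup.lift N σ hN) (QuotientGroup.mk' N y) m := by
    intro N _ hN y hy hgen m hm
    refine ⟨fun g => ?_, fun u hu => ?_, hm, le_antisymm (fun u hu => ?_) (Subgroup.zpowers_le.2 hy)⟩
    · obtain ⟨w, rfl⟩ := hs g
      exact ⟨QuotientGroup.mk' N w, rfl⟩
    · obtain ⟨w, rfl⟩ := QuotientGroup.mk'_surjective N u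
      refine Subgroup.mem_center_iff.mpr fun v => ?_
      obtain ⟨t, rfl⟩ := QuotientGroup.mk'_surjective N v
      rw [← map_mul, ← map_mul, Subgroup.mem_center_iff.mp (hcen (show w ∈ σ.ker from hu)) t]
    · obtain ⟨w, rfl⟩ := QuotientGroup.mk'_surjective N u
      have hw := Subgroup.mem_map_of_mem (QuotientGroup.mk' N) (hgen (show w ∈ σ.ker from hu))
      rw [Subgroup.map_sup, MonoidHom.map_zpowers] at hw
      rwa [show Subgroup.map (QuotientGroup.mk' N) N = ⊥ from
        (Subgroup.map_eq_bot_iff N).2 (le_of_eq (QuotientGroup.ker_mk' N).symm), bot_sup_eq] at hw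
  have hrlt : ∀ (N : Subgroup Γ) [N.Normal] (k : ℕ),
      QuotientGroup.mk' N (c.rlt L k) = c.rlt (fun i => QuotientGroup.mk' N (L i)) k :=
    fun N _ k => c.map_rlt _ L k
  have hmapz : ∀ (N : Subgroup Γ) [N.Normal],
      QuotientGroup.mk' N z = c.phiElt fun i => QuotientGroup.mk' N (L i) := by
    intro N _
    rw [hz, GCert.phiElt, map_list_prod, List.map_map, GCert.phiElt]
    refine congrArg List.prod (List.map_congr_left fun k _ => ?_)
    rw [Function.comp_apply, map_pow, hrlt]
  have hcomm : ∀ a b : σ.ker, a * b = b * a := fun a b =>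
    Subtype.ext (Subgroup.mem_center_iff.mp (hcen b.2) a)
  letI : CommGroup σ.ker := { (inferInstance : Group σ.ker) with mul_comm := hcomm }
  let sq : σ.ker →* σ.ker := powMonoidHom 2
  set B : Subgroup σ.ker := Subgroup.zpowers ⟨z, hzk⟩ ⊔ sq.range with hB
  have hBtop : B = ⊤ := by
    by_contra hne
    obtain ⟨K0, hK0, hle⟩ := (eq_top_or_exists_le_coatom B).resolve_left hne
    set N : Subgroup Γ := K0.map σ.ker.subtype
    have hN : N ≤ σ.ker := Subgroup.map_subtype_le _
    haveI : N.Normal := ⟨fun t ht g => by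
      rwa [show g * t * g⁻¹ = t by rw [Subgroup.mem_center_iff.mp (hcen (hN ht)) g, mul_inv_cancel_right]]⟩
    obtain ⟨y, hy⟩ : ∃ y : σ.ker, y ∉ K0 := by
      by_contra hcon
      push Not at hcon
      exact hK0.1 (eq_top_iff.mpr fun t _ => hcon t)
    have hgen : σ.ker ≤ N ⊔ Subgroup.zpowers (y : Γ) := by
      intro t ht
      have htop : K0 ⊔ Subgroup.zpowers y = ⊤ :=
        hK0.2 _ (lt_of_le_of_ne le_sup_left fun h1 =>
          hy (h1 ▸ Subgroup.mem_sup_right (Subgroup.mem_zpowers y)))
      have h := Subgroup.mem_map_of_mem σ.ker.subtype (htop ▸ Subgroup.mem_top (⟨t, ht⟩ : σ.ker) :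
        (⟨t, ht⟩ : σ.ker) ∈ K0 ⊔ Subgroup.zpowers y)
      rwa [Subgroup.map_sup, MonoidHom.map_zpowers] at h
    have hyN : QuotientGroup.mk' N (y : Γ) ≠ 1 := fun h => by
      obtain ⟨t, ht, e⟩ := (QuotientGroup.eq_one_iff _).1 h
      exact hy (Subtype.coe_injective e ▸ ht)
    have hy2 : QuotientGroup.mk' N (y : Γ) ^ 2 = 1 := by
      rw [← map_pow]
      exact (QuotientGroup.eq_one_iff _).2 ⟨y ^ 2, hle (Subgroup.mem_sup_right ⟨y, rfl⟩), rfl⟩
    have hcov := hquot N hN y y.2 hgen c.p (hp2.symm ▸ orderOf_eq_prime hy2 hyN)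
    have hmem : QuotientGroup.mk' N (y : Γ) ∈ commutator (Γ ⧸ N) := by
      have h1 : (commutator Γ).map (QuotientGroup.mk' N) ≤ commutator (Γ ⧸ N) := by
        rw [commutator_def, commutator_def, Subgroup.map_commutator]
        exact Subgroup.commutator_mono le_top le_top
      exact h1 ⟨y, hst y.2, rfl⟩
    haveI : NeZero c.p := ⟨hc.prime.ne_zero⟩
    have hLN : ∀ i, QuotientGroup.lift N σ hN (QuotientGroup.mk' N (L i)) = gel i := hL
    choose x hx using fun k => cE_surj (m := c.p) hcov (c.rlt_mem hc.rels hLN k)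
    refine hc.toCore.split hcov hmem hLN x hx (cE_inj hcov ?_)
    rw [← c.map_phiElt hcov _ x hx, ← hmapz]
    exact (QuotientGroup.eq_one_iff _).2
      ⟨⟨z, hzk⟩, hle (Subgroup.mem_sup_left (Subgroup.mem_zpowers _)), rfl⟩
  -- the kernel is generated by the form
  set R := (Nat.card σ.ker).primeFactorsList.length
  have hcard : Nat.card σ.ker = 2 ^ R :=
    Nat.eq_prime_pow_of_unique_prime_dvd Nat.card_pos.ne' fun hq hd => hodd _ hq hd
  have hit : ∀ (r : ℕ) (y : σ.ker), ∃ (i : ℤ) (t : σ.ker), y = (⟨z, hzk⟩ : σ.ker) ^ i * t ^ 2 ^ r := by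
    intro r
    induction r with
    | zero => intro y; exact ⟨0, y, by simp⟩
    | succ r ih =>
      intro y
      obtain ⟨i, t, rfl⟩ := ih y
      obtain ⟨_, ⟨j, rfl⟩, _, ⟨w, rfl⟩, e⟩ :=
        Subgroup.mem_sup.1 (hBtop ▸ Subgroup.mem_top t : t ∈ B)
      refine ⟨i + j * (2 ^ r : ℕ), w, ?_⟩
      rw [← e, mul_pow, show sq w = w ^ 2 from rfl, ← pow_mul, ← pow_succ', zpow_add, zpow_mul,
        zpow_natCast, mul_assoc]
  have hgenz : σ.ker ≤ Subgroup.zpowers z := by
    intro y hy
    obtain ⟨i, t, e⟩ := hit R ⟨y, hy⟩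
    rw [show t ^ 2 ^ R = 1 by rw [← hcard]; exact pow_card_eq_one', mul_one] at e
    exact ⟨i, (congrArg Subtype.val e).symm⟩
  refine ⟨z, hzk, ?_, hgenz⟩
  by_contra hz2
  -- a quotient with cyclic kernel of order four
  have hord : ∃ R', orderOf z = 2 ^ (R' + 2) := by
    have hd : orderOf (⟨z, hzk⟩ : σ.ker) ∣ 2 ^ R := hcard ▸ orderOf_dvd_natCard _
    rw [Subgroup.orderOf_mk] at hd
    obtain ⟨a, -, ha⟩ := (Nat.dvd_prime_pow Nat.prime_two).1 hd
    rcases a with _ | _ | a
    · exact absurd (by rw [orderOf_eq_one_iff.1 (ha.trans (pow_zero 2)), one_pow]) hz2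
    · exact absurd (by simpa [ha] using pow_orderOf_eq_one z) hz2
    · exact ⟨a, ha⟩
  obtain ⟨R', hR'⟩ := hord
  set N : Subgroup Γ := Subgroup.zpowers (z ^ 4)
  have hN : N ≤ σ.ker := Subgroup.zpowers_le.2 (pow_mem hzk 4)
  haveI : N.Normal := ⟨fun t ht g => by
    rwa [show g * t * g⁻¹ = t by rw [Subgroup.mem_center_iff.mp (hcen (hN ht)) g, mul_inv_cancel_right]]⟩
  have hm4 : orderOf (QuotientGroup.mk' N z) = 4 := by
    refine orderOf_eq_prime_pow (p := 2) (n := 1) ?_ ?_
    · rw [← map_pow, pow_one]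
      intro h
      obtain ⟨i, hi⟩ := Subgroup.mem_zpowers_iff.1 ((QuotientGroup.eq_one_iff _).1 h)
      rw [← zpow_natCast, ← zpow_mul, ← zpow_natCast, zpow_eq_zpow_iff_modEq, hR', Int.modEq_iff_dvd] at hi
      have h4 : (4 : ℤ) ∣ ((2 ^ (R' + 2) : ℕ) : ℤ) := ⟨2 ^ R', by push_cast; ring⟩
      have := h4.trans hi
      omega
    · rw [← map_pow]
      exact (QuotientGroup.eq_one_iff _).2 (Subgroup.mem_zpowers _)
  have hcov := hquot N hN z hzk (le_sup_of_le_right hgenz) 4 hm4
  haveI : NeZero (4 : ℕ) := ⟨by norm_num⟩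
  have hLN : ∀ i, QuotientGroup.lift N σ hN (QuotientGroup.mk' N (L i)) = gel i := hL
  choose x hx using fun k => cE_surj (m := 4) hcov (c.rlt_mem hc.rels hLN k)
  have h1 : evl 4 c.rels.length x c.phiC = 1 := by
    rw [← sub_eq_zero]
    refine cE_inj hcov ?_
    rw [sub_eq_add_neg, cE_add hcov, cE_neg hcov, ← c.map_phiElt hcov _ x hx, ← hmapz,
      show (1 : ZMod 4) = ((1 : ℕ) : ZMod 4) from Nat.cast_one.symm, cE_natCast hcov, pow_one,
      mul_inv_cancel]
  simp only [GCert.checkFour, Bool.and_eq_true, List.all_eq_true, Nat.blt_eq, List.mem_range, Nat.beq_eq] at h4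
  have h0 : evl 4 c.rels.length x
      (fun k => (four.map fun a => a.2 * c.eqCoef 4 a.1 k).sum + 2 * c.phiC k) = 0 := by
    refine Finset.sum_eq_zero fun k hk => ?_
    rw [← ZMod.natCast_mod, h4.2 k (Finset.mem_range.1 hk), Nat.cast_zero, zero_mul]
  rw [evl_add, evl_smul, evl_sum_eqs hcov c hc.eqs _ x hx four h4.1, h1] at h0
  exact absurd h0 (by decide)

/-! ### A parity form of the solution check -/

/-- The parities of a coefficient list. -/
def listMask : List ℕ → ℕ
  | [] => 0
  | a :: r => (a % 2) + 2 * listMask r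

/-- The parities of the coefficients along a derivation. -/
def pathMask : List Step → ℕ
  | [] => 0
  | s :: r => 2 ^ s.1 ^^^ pathMask r

/-- The parities of the correction of a word. -/
def GCert.wordMask (c : GCert) : List ℕ → ℕ
  | [] => 0
  | i :: r => listMask (c.D.getD i []) ^^^ c.wordMask r

/-- The parities of an equation. -/
def eqMask (e : List ℕ × List Step × List Step) : ℕ := pathMask e.2.1 ^^^ pathMask e.2.2

/-- The parities of a combination of equations. -/
def GCert.combMask (c : GCert) (rows : List ℕ) : List (ℕ × ℕ) → ℕ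
  | [] => 0
  | a :: r => (bif Nat.beq (a.2 % 2) 1 then rows.getD a.1 0 else 0) ^^^ c.combMask rows r

/-- The solution check on parities, with the form zero. -/
def GCert.checkSolTwo (c : GCert) (rows : List ℕ) : Bool :=
  Nat.ble c.sol.length c.rels.length && (List.range c.sol.length).all fun j =>
    Nat.beq (c.sol.getD j (0, [])).1 0 &&
    (c.sol.getD j (0, [])).2.all (fun a => Nat.blt a.1 c.eqs.length) &&
    Nat.beq ((2 ^ j ^^^ (c.wordMask (c.rels.getD j ([], [])).1 ^^^
      (c.wordMask (c.rels.getD j ([], [])).2 ^^^ c.combMask rows (c.sol.getD j (0, [])).2))) %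
        2 ^ c.rels.length) 0

theorem testBit_listMask : ∀ (l : List ℕ) (k : ℕ), (listMask l).testBit k = decide (l.getD k 0 % 2 = 1)
  | [], k => by simp [listMask]
  | a :: r, 0 => by
    rw [Nat.testBit_zero, listMask, List.getD_cons_zero]
    exact decide_eq_decide.2 (by omega)
  | a :: r, k + 1 => by
    rw [Nat.testBit_succ, listMask, List.getD_cons_succ, show (a % 2 + 2 * listMask r) / 2 = listMask r by omega,
      testBit_listMask r k]

theorem parity_add (a b : ℕ) :
    decide ((a + b) % 2 = 1) = xor (decide (a % 2 = 1)) (decide (b % 2 = 1)) := by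
  rcases Nat.mod_two_eq_zero_or_one a with ha | ha <;> rcases Nat.mod_two_eq_zero_or_one b with hb | hb <;>
    simp [Nat.add_mod, ha, hb]

theorem testBit_pathMask (k : ℕ) : ∀ q : List Step, (pathMask q).testBit k = decide (coef 2 q k % 2 = 1)
  | [] => by simp [pathMask, coef]
  | s :: r => by
    rw [pathMask, coef, parity_add, Nat.testBit_xor, testBit_pathMask k r, Nat.testBit_two_pow]
    congr 1
    by_cases h : s.1 = k
    · rw [show Nat.beq s.1 k = true by rw [Nat.beq_eq]; exact h, cond_true]
      cases s.2.1 <;> simp [h]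
    · rw [show Nat.beq s.1 k = false by rw [Bool.eq_false_iff, ne_eq, Nat.beq_eq]; exact h, cond_false]
      simp [h]

theorem GCert.testBit_wordMask (c : GCert) (k : ℕ) :
    ∀ w : List ℕ, (c.wordMask w).testBit k = decide (c.dWord w k % 2 = 1)
  | [] => by simp [GCert.wordMask, GCert.dWord]
  | i :: r => by
    rw [GCert.wordMask, GCert.dWord, parity_add, Nat.testBit_xor, testBit_listMask, c.testBit_wordMask k r]

theorem GCert.testBit_combMask (c : GCert) {rows : List ℕ} (hrows : rows = c.eqs.map eqMask) (k : ℕ) :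
    ∀ l : List (ℕ × ℕ), (∀ a ∈ l, a.1 < c.eqs.length) →
      (c.combMask rows l).testBit k = decide ((l.map fun a => a.2 * c.eqCoef 2 a.1 k).sum % 2 = 1)
  | [], _ => by simp [GCert.combMask]
  | a :: r, h => by
    rw [GCert.combMask, List.map_cons, List.sum_cons, parity_add, Nat.testBit_xor,
      c.testBit_combMask hrows k r fun b hb => h b (List.mem_cons_of_mem _ hb)]
    congr 1
    have ha := h a List.mem_cons_self
    have he : rows.getD a.1 0 = eqMask (c.eqs.getD a.1 ([], [], [])) := by
      rw [hrows, List.getD_eq_getElem _ _ (by simpa using ha), List.getElem_map, List.getD_eq_getElem _ _ ha]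
    have hm : ∀ x y : ℕ, decide ((x * y) % 2 = 1) = (decide (x % 2 = 1) && decide (y % 2 = 1)) := fun x y => by
      rcases Nat.mod_two_eq_zero_or_one x with hx | hx <;> rcases Nat.mod_two_eq_zero_or_one y with hy | hy <;>
        simp [Nat.mul_mod, hx, hy]
    rw [hm]
    rcases Nat.mod_two_eq_zero_or_one a.2 with h2 | h2
    · rw [h2, show Nat.beq 0 1 = false from rfl, cond_false]; simp
    · rw [show Nat.beq (a.2 % 2) 1 = true by rw [Nat.beq_eq]; exact h2, cond_true, he, eqMask, Nat.testBit_xor,
        testBit_pathMask, testBit_pathMask, h2, GCert.eqCoef, parity_add]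
      simp

theorem GCert.checkSol_of_two {c : GCert} (hp : c.p = 2) {rows : List ℕ} (hrows : rows = c.eqs.map eqMask)
    (h : c.checkSolTwo rows = true) : c.checkSol = true := by
  simp only [GCert.checkSolTwo, Bool.and_eq_true, Nat.ble_eq, List.all_eq_true, List.mem_range, Nat.blt_eq,
    Nat.beq_eq] at h
  simp only [GCert.checkSol, Bool.and_eq_true, Nat.ble_eq, List.all_eq_true, List.mem_range, Nat.blt_eq,
    Nat.beq_eq]
  refine ⟨h.1, fun j hj => ⟨(h.2 j hj).1.2, fun k hk => ?_⟩⟩
  obtain ⟨⟨hf, hl⟩, hm⟩ := h.2 j hj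
  have hb := congrArg (fun m : ℕ => m.testBit k) hm
  simp only [Nat.testBit_mod_two_pow, Nat.zero_testBit, hk, decide_true, Bool.true_and, Nat.testBit_xor,
    c.testBit_wordMask, c.testBit_combMask hrows k _ hl, Nat.testBit_two_pow] at hb
  rw [hp, hf, show (2 : ℕ) - 1 = 1 from rfl, one_mul, one_mul, one_mul, zero_mul, add_zero]
  set X := c.dWord (c.rels.getD j ([], [])).1 k
  set Y := c.dWord (c.rels.getD j ([], [])).2 k
  set Z := ((c.sol.getD j (0, [])).2.map fun a => a.2 * c.eqCoef 2 a.1 k).sum
  by_cases hjk : j = k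
  · rw [show Nat.beq j k = true by rw [Nat.beq_eq]; exact hjk, cond_true]
    rcases Nat.mod_two_eq_zero_or_one X with hx | hx <;> rcases Nat.mod_two_eq_zero_or_one Y with hy | hy <;>
      rcases Nat.mod_two_eq_zero_or_one Z with hz | hz <;> simp [hjk, hx, hy, hz] at hb <;> omega
  · rw [show Nat.beq j k = false by rw [Bool.eq_false_iff, ne_eq, Nat.beq_eq]; exact hjk, cond_false]
    rcases Nat.mod_two_eq_zero_or_one X with hx | hx <;> rcases Nat.mod_two_eq_zero_or_one Y with hy | hy <;>
      rcases Nat.mod_two_eq_zero_or_one Z with hz | hz <;> simp [hjk, hx, hy, hz] at hb <;> omega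

/-! ### A lower bound from invariant sets -/

/-- If each generator moves a finite set that the later ones keep, the order is at least a power of two. -/
theorem two_pow_le_closure {α : Type*} [MulAction G α] [Finite G] (gel : ℕ → G) (n : ℕ)
    (h : ∀ i < n, ∃ T : Set α, (∀ j, i < j → j < n → ∀ x ∈ T, gel j • x ∈ T) ∧ ∃ x ∈ T, gel i • x ∉ T) :
    2 ^ n ≤ Nat.card (Subgroup.closure (gel '' {s | s < n})) := by
  let A : ℕ → Subgroup G := fun i => Subgroup.closure (gel '' {s | i ≤ s ∧ s < n})
  have hb : ∀ d i, i + d = n → 2 ^ d ≤ Nat.card (A i) := by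
    intro d
    induction d with
    | zero => intro i _; rw [pow_zero]; exact Nat.card_pos
    | succ d ih =>
      intro i hi
      have h1 := ih (i + 1) (by omega)
      have hle : A (i + 1) ≤ A i :=
        Subgroup.closure_mono (Set.image_mono fun s hs => ⟨Nat.le_of_succ_le hs.1, hs.2⟩)
      obtain ⟨T, hT, x, hx, hxT⟩ := h i (by omega)
      have hstab : ∀ g ∈ A (i + 1), ∀ y ∈ T, g • y ∈ T := by
        intro g hg
        have hg' : g ∈ Submonoid.closure (gel '' {s | i + 1 ≤ s ∧ s < n}) := by
          rw [← Subgroup.closure_toSubmonoid_of_finite]; exact hg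
        induction hg' using Submonoid.closure_induction_left with
        | one => intro y hy; rwa [one_smul]
        | mul_left u hu w hw ihw =>
          intro y hy
          obtain ⟨s, ⟨hs1, hs2⟩, rfl⟩ := hu
          rw [mul_smul]
          exact hT s hs1 hs2 _ (ihw ((SetLike.mem_coe).2
            (Submonoid.closure_le.2 Subgroup.subset_closure hw)) y hy)
      have hlt : A (i + 1) < A i := lt_of_le_of_ne hle fun e => hxT (hstab (gel i)
        (e.ge (Subgroup.subset_closure ⟨i, ⟨le_rfl, by omega⟩, rfl⟩)) x hx)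
      obtain ⟨q, hq⟩ := Subgroup.card_dvd_of_le hle
      have hne : Nat.card (A (i + 1)) ≠ Nat.card (A i) := fun e =>
        hlt.ne (Subgroup.eq_of_le_of_card_ge hle e.ge)
      rw [hq] at hne ⊢
      rcases q with _ | _ | q
      · have := Nat.card_pos (α := A i); rw [hq, mul_zero] at this; omega
      · simp at hne
      · calc 2 ^ (d + 1) = 2 ^ d * 2 := pow_succ 2 d
          _ ≤ Nat.card (A (i + 1)) * (q + 1 + 1) := Nat.mul_le_mul h1 (by omega)
  have h0 := hb n 0 (Nat.zero_add n)
  simpa [A] using h0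

end CfsgLib.SchurCert
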