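/-
Certificate data for the 2-part of the multiplier of the group G12.
-/
import Cfsg.Agent.SchurCert.Basic

set_option autoImplicit false
set_option maxRecDepth 100000

namespace CfsgLib.SchurCert.G12p2

open CfsgLib.M23Coh (Pres Step)

/-- Part of the generators. -/
def gens0 : List (List ℕ) :=
  [[1, 5, 8, 9, 18, 7, 12, 0, 10, 11, 17, 19, 15, 22, 23, 20, 13, 2, 14, 3, 6, 16, 21, 4],
   [0, 12, 2, 13, 15, 5, 14, 20, 18, 9, 10, 21, 1, 3, 6, 4, 16, 23, 8, 19, 7, 11, 22, 17],
   [4, 20, 6, 19, 5, 14, 10, 12, 23, 3, 15, 9, 1, 22, 0, 2, 13, 18, 8, 11, 7, 16, 21, 17],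
   [5, 7, 10, 11, 14, 0, 15, 1, 17, 19, 2, 3, 20, 21, 4, 6, 22, 8, 23, 9, 12, 13, 16, 18],
   [0, 1, 2, 22, 6, 5, 4, 7, 8, 21, 10, 16, 18, 19, 15, 14, 11, 17, 12, 13, 23, 9, 3, 20],
   [0, 8, 2, 13, 4, 5, 6, 17, 1, 16, 10, 21, 18, 3, 14, 15, 9, 7, 12, 22, 23, 11, 19, 20],
   [2, 8, 0, 11, 6, 10, 4, 17, 1, 19, 5, 3, 18, 21, 15, 14, 22, 7, 12, 9, 23, 13, 16, 20],
   [3, 12, 21, 4, 19, 11, 16, 20, 23, 10, 13, 14, 8, 15, 9, 22, 0, 18, 7, 2, 17, 6, 5, 1],
   [0, 15, 2, 19, 12, 5, 18, 6, 14, 21, 10, 9, 17, 3, 20, 23, 16, 4, 7, 13, 8, 11, 22, 1]]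

/-- The generators. -/
def gens : List (List ℕ) :=
  gens0

/-- Part of the relations. -/
def rels0 : List (List ℕ × List ℕ) :=
  [([0, 0], [3]),
   ([1, 0], [0, 1, 2, 3, 4]),
   ([1, 1], []),
   ([2, 0], [0, 2, 3, 6]),
   ([2, 1], [1, 2, 3, 5, 6]),
   ([2, 2], [3]),
   ([3, 0], [0, 3]),
   ([3, 1], [1, 3]),
   ([3, 2], [2, 3]),
   ([3, 3], []),
   ([4, 0], [0, 4]),
   ([4, 1], [1, 4, 5]),
   ([4, 2], [2, 4, 6]),
   ([4, 3], [3, 4]),
   ([4, 4], []),
   ([5, 0], [0, 5, 6]),
   ([5, 1], [1, 5]),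
   ([5, 2], [2, 5]),
   ([5, 3], [3, 5]),
   ([5, 4], [4, 5]),
   ([5, 5], []),
   ([6, 0], [0, 6]),
   ([6, 1], [1, 6]),
   ([6, 2], [2, 6]),
   ([6, 3], [3, 6]),
   ([6, 4], [4, 6]),
   ([6, 5], [5, 6]),
   ([6, 6], []),
   ([7, 1, 2, 3, 4, 5, 6], [4, 5, 7]),
   ([7, 1], [1, 5, 7]),
   ([7, 3], [3, 7]),
   ([7, 4], [1, 2, 4, 6, 7]),
   ([7, 5, 6], [5, 6, 7]),
   ([7, 5], [3, 6, 7]),
   ([8, 2], [0, 2, 4, 6, 8]),
   ([8, 0], [2, 3, 5, 6, 8]),
   ([8, 3], [3, 8]),
   ([8, 5], [4, 5, 8]),
   ([8, 4], [5, 8]),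
   ([8, 6], [6, 8])]

/-- The relations. -/
def rels : List (List ℕ × List ℕ) :=
  rels0

/-- Part of the derivations. -/
def eqs0 : List (List ℕ × List Step × List Step) :=
  [([0, 0, 0], [(0, false, 0), (6, false, 0)], [(0, false, 1)]),
   ([1, 1, 0], [(2, false, 0)], [(1, false, 1), (1, false, 0), (11, false, 4), (7, false, 3), (4, false, 2), (2, false, 1), (24, false, 4), (18, false, 3), (9, false, 2), (25, false, 3), (19, false, 2), (26, false, 4), (20, false, 3), (23, false, 3), (12, false, 2), (5, false, 1), (27, false, 3), (13, false, 2), (9, false, 1), (14, false, 1)]),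
   ([1, 0, 0], [(1, false, 0), (10, false, 4), (6, false, 3), (3, false, 2), (1, false, 1), (0, false, 0), (7, false, 0), (8, false, 1), (9, false, 2), (12, false, 2), (5, false, 1), (24, false, 3), (13, false, 2), (9, false, 1), (27, false, 2), (13, false, 1), (14, false, 2)], [(0, false, 1)]),
   ([1, 1, 1], [(2, false, 0)], [(2, false, 1)]),
   ([2, 2, 0], [(5, false, 0), (6, false, 0)], [(3, false, 1), (3, false, 0), (23, false, 3), (8, false, 2), (5, false, 1), (9, false, 1), (24, false, 1), (27, false, 2)]),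
   ([2, 0, 0], [(3, false, 0), (21, false, 3), (6, false, 2), (3, false, 1), (0, false, 0), (8, false, 0), (9, false, 1), (24, false, 1), (27, false, 2)], [(0, false, 1)]),
   ([2, 1, 0], [(4, false, 0), (21, false, 4), (15, false, 3), (6, false, 2), (3, false, 1), (1, false, 0), (12, false, 4), (8, false, 3), (5, false, 2), (9, false, 2), (24, false, 3), (13, false, 2), (27, false, 4), (13, false, 3), (9, false, 2), (27, false, 4)], [(1, false, 1), (3, false, 0), (22, false, 3), (7, false, 2), (4, false, 1), (24, false, 5), (18, false, 4), (9, false, 3), (27, false, 4), (17, false, 3), (5, false, 2), (18, false, 3), (9, false, 2), (19, false, 2)]),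
   ([2, 2, 1], [(5, false, 0), (7, false, 0)], [(4, false, 1), (4, false, 0), (23, false, 4), (17, false, 3), (8, false, 2), (5, false, 1), (9, false, 1), (24, false, 2), (18, false, 1), (26, false, 3), (20, false, 2), (27, false, 2)]),
   ([2, 1, 1], [(4, false, 0), (22, false, 4), (16, false, 3), (7, false, 2), (4, false, 1), (2, false, 0), (24, false, 3), (18, false, 2), (9, false, 1), (26, false, 2), (20, false, 1), (27, false, 1)], [(2, false, 1)]),
   ([2, 2, 2], [(5, false, 0), (8, false, 0)], [(5, false, 1)]),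
   ([3, 3, 0], [(9, false, 0)], [(6, false, 1), (6, false, 0), (9, false, 1)]),
   ([3, 0, 0], [(6, false, 0), (6, false, 1), (0, false, 0), (9, false, 0)], [(0, false, 1), (9, false, 0)]),
   ([3, 1, 0], [(7, false, 0), (6, false, 1), (1, false, 0), (13, false, 4), (9, false, 3)], [(1, false, 1), (6, false, 0), (7, false, 1), (8, false, 2), (9, false, 3)]),
   ([3, 3, 1], [(9, false, 0)], [(7, false, 1), (7, false, 0), (9, false, 1)]),
   ([3, 1, 1], [(7, false, 0), (7, false, 1), (2, false, 0)], [(2, false, 1)]),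
   ([3, 2, 0], [(8, false, 0), (6, false, 1), (3, false, 0), (24, false, 3), (9, false, 2)], [(3, false, 1), (6, false, 0), (8, false, 1), (9, false, 2)]),
   ([3, 2, 1], [(8, false, 0), (7, false, 1), (4, false, 0), (24, false, 4), (18, false, 3), (9, false, 2)], [(4, false, 1), (7, false, 0), (8, false, 1), (9, false, 2)]),
   ([3, 3, 2], [(9, false, 0)], [(8, false, 1), (8, false, 0), (9, false, 1)]),
   ([3, 2, 2], [(8, false, 0), (8, false, 1), (5, false, 0), (9, false, 0)], [(5, false, 1), (9, false, 0)]),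
   ([3, 3, 3], [(9, false, 0)], [(9, false, 1)]),
   ([4, 4, 0], [(14, false, 0)], [(10, false, 1), (10, false, 0), (14, false, 1)]),
   ([4, 0, 0], [(10, false, 0), (10, false, 1), (0, false, 0)], [(0, false, 1), (13, false, 0)]),
   ([4, 1, 0], [(11, false, 0), (15, false, 2), (10, false, 1), (1, false, 0), (14, false, 4)], [(1, false, 1), (10, false, 0), (11, false, 1), (17, false, 3), (12, false, 2), (26, false, 4), (24, false, 5), (18, false, 4), (13, false, 3), (25, false, 6), (19, false, 5), (14, false, 4)]),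
   ([4, 4, 1], [(14, false, 0)], [(11, false, 1), (11, false, 0), (19, false, 2), (14, false, 1), (20, false, 1)]),
   ([4, 1, 1], [(11, false, 0), (16, false, 2), (11, false, 1), (2, false, 0), (20, false, 1)], [(2, false, 1)]),
   ([4, 2, 0], [(12, false, 0), (21, false, 2), (10, false, 1), (3, false, 0), (25, false, 3), (27, false, 4)], [(3, false, 1), (10, false, 0), (12, false, 1), (24, false, 3), (13, false, 2), (27, false, 4)]),
   ([4, 2, 1], [(12, false, 0), (22, false, 2), (11, false, 1), (4, false, 0), (25, false, 4), (19, false, 3), (26, false, 5), (20, false, 4), (27, false, 4)], [(4, false, 1), (11, false, 0), (17, false, 2), (12, false, 1), (26, false, 3), (24, false, 4), (18, false, 3), (13, false, 2), (26, false, 5), (20, false, 4), (27, false, 4)]),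
   ([4, 4, 2], [(14, false, 0)], [(12, false, 1), (12, false, 0), (25, false, 2), (14, false, 1), (27, false, 1)]),
   ([4, 2, 2], [(12, false, 0), (23, false, 2), (12, false, 1), (5, false, 0), (27, false, 2)], [(5, false, 1), (13, false, 0)]),
   ([4, 3, 0], [(13, false, 0), (10, false, 1), (6, false, 0)], [(6, false, 1), (10, false, 0), (13, false, 1)])]

/-- Part of the derivations. -/
def eqs1 : List (List ℕ × List Step × List Step) :=
  [([4, 3, 1], [(13, false, 0), (11, false, 1), (7, false, 0)], [(7, false, 1), (11, false, 0), (18, false, 2), (13, false, 1)]),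
   ([4, 3, 2], [(13, false, 0), (12, false, 1), (8, false, 0)], [(8, false, 1), (12, false, 0), (24, false, 2), (13, false, 1)]),
   ([4, 4, 3], [(14, false, 0)], [(13, false, 1), (13, false, 0), (14, false, 1)]),
   ([4, 3, 3], [(13, false, 0), (13, false, 1), (9, false, 0)], [(9, false, 1)]),
   ([4, 4, 4], [(14, false, 0)], [(14, false, 1)]),
   ([5, 5, 0], [(20, false, 0)], [(15, false, 1), (15, false, 0), (26, false, 2), (20, false, 1), (27, false, 1)]),
   ([5, 0, 0], [(15, false, 0), (21, false, 2), (15, false, 1), (0, false, 0), (27, false, 2)], [(0, false, 1), (18, false, 0)]),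
   ([5, 1, 0], [(16, false, 0), (15, false, 1), (1, false, 0)], [(1, false, 1), (15, false, 0), (22, false, 2), (16, false, 1), (23, false, 3), (17, false, 2), (24, false, 4), (18, false, 3), (25, false, 5), (19, false, 4)]),
   ([5, 5, 1], [(20, false, 0)], [(16, false, 1), (16, false, 0), (20, false, 1)]),
   ([5, 1, 1], [(16, false, 0), (16, false, 1), (2, false, 0)], [(2, false, 1)]),
   ([5, 2, 0], [(17, false, 0), (15, false, 1), (3, false, 0), (26, false, 3), (27, false, 4)], [(3, false, 1), (15, false, 0), (23, false, 2), (17, false, 1), (24, false, 3), (18, false, 2), (27, false, 4)]),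
   ([5, 2, 1], [(17, false, 0), (16, false, 1), (4, false, 0), (26, false, 4), (20, false, 3)], [(4, false, 1), (16, false, 0), (17, false, 1), (18, false, 2), (20, false, 3)]),
   ([5, 5, 2], [(20, false, 0)], [(17, false, 1), (17, false, 0), (20, false, 1)]),
   ([5, 2, 2], [(17, false, 0), (17, false, 1), (5, false, 0)], [(5, false, 1), (18, false, 0)]),
   ([5, 3, 0], [(18, false, 0), (15, false, 1), (6, false, 0)], [(6, false, 1), (15, false, 0), (24, false, 2), (18, false, 1)]),
   ([5, 3, 1], [(18, false, 0), (16, false, 1), (7, false, 0)], [(7, false, 1), (16, false, 0), (18, false, 1)]),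
   ([5, 3, 2], [(18, false, 0), (17, false, 1), (8, false, 0)], [(8, false, 1), (17, false, 0), (18, false, 1)]),
   ([5, 5, 3], [(20, false, 0)], [(18, false, 1), (18, false, 0), (20, false, 1)]),
   ([5, 3, 3], [(18, false, 0), (18, false, 1), (9, false, 0)], [(9, false, 1)]),
   ([5, 4, 0], [(19, false, 0), (15, false, 1), (10, false, 0)], [(10, false, 1), (15, false, 0), (25, false, 2), (19, false, 1)]),
   ([5, 4, 1], [(19, false, 0), (16, false, 1), (11, false, 0), (20, false, 2)], [(11, false, 1), (16, false, 0), (19, false, 1), (20, false, 2)]),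
   ([5, 4, 2], [(19, false, 0), (17, false, 1), (12, false, 0), (26, false, 2)], [(12, false, 1), (17, false, 0), (19, false, 1)]),
   ([5, 4, 3], [(19, false, 0), (18, false, 1), (13, false, 0)], [(13, false, 1), (18, false, 0), (19, false, 1)]),
   ([5, 5, 4], [(20, false, 0)], [(19, false, 1), (19, false, 0), (20, false, 1)]),
   ([5, 4, 4], [(19, false, 0), (19, false, 1), (14, false, 0)], [(14, false, 1)]),
   ([5, 5, 5], [(20, false, 0)], [(20, false, 1)]),
   ([6, 6, 0], [(27, false, 0)], [(21, false, 1), (21, false, 0), (27, false, 1)]),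
   ([6, 0, 0], [(21, false, 0), (21, false, 1), (0, false, 0)], [(0, false, 1), (24, false, 0)]),
   ([6, 1, 0], [(22, false, 0), (21, false, 1), (1, false, 0)], [(1, false, 1), (21, false, 0), (22, false, 1), (23, false, 2), (24, false, 3), (25, false, 4)]),
   ([6, 6, 1], [(27, false, 0)], [(22, false, 1), (22, false, 0), (27, false, 1)])]

/-- Part of the derivations. -/
def eqs2 : List (List ℕ × List Step × List Step) :=
  [([6, 1, 1], [(22, false, 0), (22, false, 1), (2, false, 0)], [(2, false, 1)]),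
   ([6, 2, 0], [(23, false, 0), (21, false, 1), (3, false, 0), (27, false, 3)], [(3, false, 1), (21, false, 0), (23, false, 1), (24, false, 2), (27, false, 3)]),
   ([6, 2, 1], [(23, false, 0), (22, false, 1), (4, false, 0), (27, false, 4)], [(4, false, 1), (22, false, 0), (23, false, 1), (24, false, 2), (26, false, 3), (27, false, 4)]),
   ([6, 6, 2], [(27, false, 0)], [(23, false, 1), (23, false, 0), (27, false, 1)]),
   ([6, 2, 2], [(23, false, 0), (23, false, 1), (5, false, 0)], [(5, false, 1), (24, false, 0)]),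
   ([6, 3, 0], [(24, false, 0), (21, false, 1), (6, false, 0)], [(6, false, 1), (21, false, 0), (24, false, 1)]),
   ([6, 3, 1], [(24, false, 0), (22, false, 1), (7, false, 0)], [(7, false, 1), (22, false, 0), (24, false, 1)]),
   ([6, 3, 2], [(24, false, 0), (23, false, 1), (8, false, 0)], [(8, false, 1), (23, false, 0), (24, false, 1)]),
   ([6, 6, 3], [(27, false, 0)], [(24, false, 1), (24, false, 0), (27, false, 1)]),
   ([6, 3, 3], [(24, false, 0), (24, false, 1), (9, false, 0)], [(9, false, 1)]),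
   ([6, 4, 0], [(25, false, 0), (21, false, 1), (10, false, 0)], [(10, false, 1), (21, false, 0), (25, false, 1)]),
   ([6, 4, 1], [(25, false, 0), (22, false, 1), (11, false, 0)], [(11, false, 1), (22, false, 0), (25, false, 1), (26, false, 2)]),
   ([6, 4, 2], [(25, false, 0), (23, false, 1), (12, false, 0), (27, false, 2)], [(12, false, 1), (23, false, 0), (25, false, 1), (27, false, 2)]),
   ([6, 4, 3], [(25, false, 0), (24, false, 1), (13, false, 0)], [(13, false, 1), (24, false, 0), (25, false, 1)]),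
   ([6, 6, 4], [(27, false, 0)], [(25, false, 1), (25, false, 0), (27, false, 1)]),
   ([6, 4, 4], [(25, false, 0), (25, false, 1), (14, false, 0)], [(14, false, 1)]),
   ([6, 5, 0], [(26, false, 0), (21, false, 1), (15, false, 0), (27, false, 2)], [(15, false, 1), (21, false, 0), (26, false, 1), (27, false, 2)]),
   ([6, 5, 1], [(26, false, 0), (22, false, 1), (16, false, 0)], [(16, false, 1), (22, false, 0), (26, false, 1)]),
   ([6, 5, 2], [(26, false, 0), (23, false, 1), (17, false, 0)], [(17, false, 1), (23, false, 0), (26, false, 1)]),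
   ([6, 5, 3], [(26, false, 0), (24, false, 1), (18, false, 0)], [(18, false, 1), (24, false, 0), (26, false, 1)]),
   ([6, 5, 4], [(26, false, 0), (25, false, 1), (19, false, 0)], [(19, false, 1), (25, false, 0), (26, false, 1)]),
   ([6, 6, 5], [(27, false, 0)], [(26, false, 1), (26, false, 0), (27, false, 1)]),
   ([6, 5, 5], [(26, false, 0), (26, false, 1), (20, false, 0)], [(20, false, 1)]),
   ([6, 6, 6], [(27, false, 0)], [(27, false, 1)]),
   ([7, 1, 2, 3, 4, 5, 6, 1, 2, 3, 4, 5, 6], [(28, false, 0), (28, false, 2), (19, false, 1), (14, false, 0), (20, false, 0)], [(22, false, 6), (16, false, 5), (11, false, 4), (7, false, 3), (4, false, 2), (2, false, 1), (24, false, 4), (18, false, 3), (9, false, 2), (25, false, 3), (19, false, 2), (26, false, 4), (20, false, 3), (26, false, 3), (27, false, 4), (17, false, 3), (12, false, 2), (5, false, 1), (26, false, 3), (24, false, 4), (18, false, 3), (13, false, 2), (9, false, 1), (25, false, 3), (19, false, 2), (14, false, 1),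 (26, false, 2), (20, false, 1), (27, false, 1)]),
   ([7, 1, 1], [(29, false, 0), (29, false, 2), (16, false, 1), (2, false, 0), (20, false, 0)], [(2, false, 1)]),
   ([7, 1, 1, 2, 3, 4, 5, 6], [(29, false, 0), (28, false, 2), (19, false, 1), (20, false, 2)], [(2, false, 1), (26, true, 4), (20, true, 4), (13, true, 2), (18, true, 3), (27, true, 4), (26, true, 3), (20, true, 3), (26, true, 4), (19, true, 2), (25, true, 3), (9, true, 2), (18, true, 3), (24, true, 4), (2, true, 1), (4, true, 2), (7, true, 3), (11, true, 4), (16, true, 5), (22, true, 6), (28, false, 0), (29, false, 2), (30, false, 4), (32, false, 5), (33, false, 7), (16, false, 1), (11, false, 0), (20, false, 2), (18, false, 2), (13, false, 1), (20, false, 3), (24, false, 3), (13, false, 2), (9, false, 1), (27, false, 2)]),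
   ([7, 3, 3], [(30, false, 0), (30, false, 1), (9, false, 0)], [(9, false, 1)]),
   ([7, 3, 1, 2, 3, 4, 5, 6], [(30, false, 0), (28, false, 1)], [(7, false, 1), (8, false, 2), (9, false, 3), (9, true, 3), (13, true, 4), (18, true, 5), (24, true, 6), (28, false, 0), (30, false, 2), (18, false, 1), (13, false, 0)]),
   ([7, 3, 1], [(30, false, 0), (29, false, 1), (7, false, 0)], [(7, false, 1), (29, false, 0), (30, false, 2), (18, false, 1)])]

/-- Part of the derivations. -/
def eqs3 : List (List ℕ × List Step × List Step) :=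
  [([7, 4, 4], [(31, false, 0), (31, false, 4), (22, false, 3), (11, false, 2), (4, false, 1), (2, false, 0), (25, false, 3), (19, false, 2), (26, false, 4), (20, false, 3), (27, false, 3), (12, false, 2), (8, false, 1), (5, false, 0), (9, false, 0), (25, false, 1), (14, false, 0), (27, false, 0)], [(14, false, 1)]),
   ([7, 4, 1, 2, 3, 4, 5, 6], [(31, false, 0), (28, false, 4), (25, false, 3), (14, false, 2), (26, false, 2)], [(11, false, 1), (17, false, 3), (12, false, 2), (26, false, 4), (24, false, 5), (18, false, 4), (13, false, 3), (25, false, 6), (19, false, 5), (14, false, 4), (26, false, 5), (20, false, 4), (27, false, 4), (27, true, 4), (20, true, 4), (26, true, 5), (14, true, 4), (19, true, 5), (25, true, 6), (28, false, 0), (31, false, 2), (32, false, 6), (16, false, 1), (11, false, 0), (20, false, 2), (12, false, 1), (25, false, 3), (14, false, 2), (27, false, 2)]),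
   ([7, 4, 1], [(31, false, 0), (29, false, 4), (22, false, 3), (11, false, 2), (4, false, 1), (2, false, 0), (25, false, 3), (19, false, 2), (26, false, 4), (20, false, 3), (27, false, 3)], [(11, false, 1), (29, false, 0), (31, false, 2), (33, false, 6), (16, false, 1), (2, false, 0), (17, false, 0), (19, false, 1), (24, false, 3), (18, false, 2), (13, false, 1), (27, false, 4)]),
   ([7, 4, 3], [(31, false, 0), (30, false, 4), (24, false, 3), (13, false, 2)], [(13, false, 1), (30, false, 0), (31, false, 1), (7, false, 0), (8, false, 1)]),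
   ([7, 5, 6, 5, 6], [(32, false, 0), (32, false, 2), (26, false, 1), (20, false, 0), (27, false, 0)], [(26, false, 2), (20, false, 1), (27, false, 1)]),
   ([7, 5, 6, 1, 2, 3, 4, 5, 6], [(32, false, 0), (28, false, 2), (25, false, 1), (19, false, 0), (26, false, 2), (20, false, 1)], [(22, false, 2), (16, false, 1), (23, false, 3), (17, false, 2), (24, false, 4), (18, false, 3), (25, false, 5), (19, false, 4), (26, false, 6), (20, false, 5), (27, false, 5), (27, true, 5), (20, true, 5), (26, true, 6), (28, false, 0), (32, false, 2), (20, false, 1)]),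
   ([7, 5, 6, 1], [(32, false, 0), (29, false, 2), (22, false, 1), (16, false, 0), (26, false, 2), (20, false, 1)], [(22, false, 2), (16, false, 1), (29, false, 0), (32, false, 2), (20, false, 1)]),
   ([7, 5, 6, 3], [(32, false, 0), (30, false, 2), (24, false, 1), (18, false, 0)], [(24, false, 2), (18, false, 1), (30, false, 0), (32, false, 1)]),
   ([7, 5, 6, 4], [(32, false, 0), (31, false, 2), (22, false, 1), (16, false, 0), (23, false, 2), (17, false, 1), (25, false, 3), (19, false, 2), (27, false, 4)], [(25, false, 2), (19, false, 1), (31, false, 0), (32, false, 4), (26, false, 3), (27, false, 4)]),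
   ([7, 5, 5], [(33, false, 0), (33, false, 2), (24, false, 1), (9, false, 0), (27, false, 0)], [(20, false, 1)]),
   ([7, 5, 1, 2, 3, 4, 5, 6], [(33, false, 0), (28, false, 2), (25, false, 1), (26, false, 2)], [(16, false, 1), (17, false, 2), (18, false, 3), (19, false, 4), (20, false, 5), (20, true, 5), (26, true, 6), (28, false, 0), (33, false, 2), (18, false, 1), (13, false, 0)]),
   ([7, 5, 1], [(33, false, 0), (29, false, 2), (22, false, 1), (7, false, 0), (26, false, 2)], [(16, false, 1), (29, false, 0), (33, false, 2), (18, false, 1)]),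
   ([7, 5, 3], [(33, false, 0), (30, false, 2), (24, false, 1), (9, false, 0)], [(18, false, 1), (30, false, 0), (33, false, 1), (9, false, 0)]),
   ([7, 5, 4], [(33, false, 0), (31, false, 2), (22, false, 1), (7, false, 0), (23, false, 2), (8, false, 1), (25, false, 3), (27, false, 4)], [(19, false, 1), (31, false, 0), (33, false, 4), (24, false, 3), (13, false, 2), (27, false, 4)]),
   ([7, 5, 5, 6], [(33, false, 0), (32, false, 2), (26, false, 1), (27, false, 2)], [(20, false, 1), (20, true, 1), (26, true, 2), (32, false, 0), (33, false, 2), (24, false, 1), (18, false, 0), (27, false, 2)]),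
   ([8, 2, 2], [(34, false, 0), (34, false, 4), (21, false, 3), (10, false, 2), (3, false, 1), (0, false, 0), (8, false, 0), (9, false, 1), (25, false, 1), (27, false, 2), (12, false, 1), (5, false, 0), (25, false, 2), (14, false, 1), (27, false, 1)], [(5, false, 1), (36, false, 0)]),
   ([8, 0, 0], [(35, false, 0), (35, false, 4), (23, false, 3), (17, false, 2), (8, false, 1), (5, false, 0), (9, false, 0), (24, false, 1), (18, false, 0), (26, false, 2), (20, false, 1), (27, false, 1)], [(0, false, 1), (36, false, 0)]),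
   ([8, 0, 2], [(35, false, 0), (34, false, 4), (21, false, 3), (15, false, 2), (6, false, 1), (3, false, 0), (24, false, 3), (9, false, 2), (26, false, 2), (27, false, 3), (23, false, 3), (17, false, 2), (5, false, 1), (25, false, 3), (19, false, 2), (27, false, 4)], [(27, true, 3), (9, true, 3), (24, true, 4), (3, true, 1), (34, false, 0), (35, false, 4), (36, false, 8), (39, false, 9), (23, false, 3), (12, false, 2), (5, false, 1), (27, false, 3), (13, false, 2), (9, false, 1), (24, false, 3), (18, false, 2), (13, false, 1), (27, false, 4)]),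
   ([8, 3, 3], [(36, false, 0), (36, false, 1), (9, false, 0)], [(9, false, 1)]),
   ([8, 3, 2], [(36, false, 0), (34, false, 1), (6, false, 0), (8, false, 1)], [(8, false, 1), (34, false, 0), (36, false, 4), (24, false, 3), (13, false, 2)]),
   ([8, 3, 0], [(36, false, 0), (35, false, 1), (8, false, 0), (9, false, 1)], [(6, false, 1), (35, false, 0), (36, false, 4), (24, false, 3), (18, false, 2), (9, false, 1)]),
   ([8, 5, 5], [(37, false, 0), (37, false, 2), (19, false, 1), (14, false, 0), (20, false, 0)], [(20, false, 1)]),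
   ([8, 5, 2], [(37, false, 0), (34, false, 2), (15, false, 1), (10, false, 0), (23, false, 3), (17, false, 2), (12, false, 1), (26, false, 3), (27, false, 4), (19, false, 3), (14, false, 2)], [(17, false, 1), (34, false, 0), (37, false, 4), (25, false, 3), (14, false, 2), (26, false, 2)]),
   ([8, 5, 0], [(37, false, 0), (35, false, 2), (17, false, 1), (12, false, 0), (26, false, 2), (24, false, 3), (18, false, 2), (13, false, 1), (26, false, 4), (20, false, 3), (27, false, 3)], [(15, false, 1), (35, false, 0), (37, false, 4), (39, false, 6), (25, false, 3), (19, false, 2), (26, false, 4), (20, false, 3), (27, false, 3)]),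
   ([8, 5, 3], [(37, false, 0), (36, false, 2), (18, false, 1), (13, false, 0)], [(18, false, 1), (36, false, 0), (37, false, 1)]),
   ([8, 4, 4], [(38, false, 0), (38, false, 1), (20, false, 0)], [(14, false, 1)]),
   ([8, 4, 2], [(38, false, 0), (34, false, 1), (15, false, 0), (23, false, 2), (17, false, 1), (25, false, 3), (19, false, 2), (27, false, 4)], [(12, false, 1), (34, false, 0), (38, false, 4), (39, false, 5), (26, false, 3), (27, false, 4)]),
   ([8, 4, 0], [(38, false, 0), (35, false, 1), (17, false, 0), (18, false, 1), (20, false, 2)], [(10, false, 1), (35, false, 0), (38, false, 4), (26, false, 3), (20, false, 2)]),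
   ([8, 4, 3], [(38, false, 0), (36, false, 1), (18, false, 0)], [(13, false, 1), (36, false, 0), (38, false, 1)]),
   ([8, 4, 5], [(38, false, 0), (37, false, 1), (19, false, 0), (20, false, 1)], [(19, true, 1), (37, false, 0), (38, false, 2), (20, false, 1)])]

/-- Part of the derivations. -/
def eqs4 : List (List ℕ × List Step × List Step) :=
  [([8, 6, 6], [(39, false, 0), (39, false, 1), (27, false, 0)], [(27, false, 1)]),
   ([8, 6, 2], [(39, false, 0), (34, false, 1), (21, false, 0), (23, false, 1), (25, false, 2), (27, false, 3)], [(23, false, 1), (34, false, 0), (39, false, 4), (27, false, 3)]),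
   ([8, 6, 0], [(39, false, 0), (35, false, 1), (23, false, 0), (24, false, 1), (26, false, 2), (27, false, 3)], [(21, false, 1), (35, false, 0), (39, false, 4), (27, false, 3)]),
   ([8, 6, 3], [(39, false, 0), (36, false, 1), (24, false, 0)], [(24, false, 1), (36, false, 0), (39, false, 1)]),
   ([8, 6, 5], [(39, false, 0), (37, false, 1), (25, false, 0), (26, false, 1)], [(26, false, 1), (37, false, 0), (39, false, 2)]),
   ([8, 6, 4], [(39, false, 0), (38, false, 1), (26, false, 0)], [(25, false, 1), (38, false, 0), (39, false, 1)])]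

/-- The derivations. -/
def eqs : List (List ℕ × List Step × List Step) :=
  eqs0 ++ eqs1 ++ eqs2 ++ eqs3 ++ eqs4

/-- Part of the corrections. -/
def corr0 : List (List ℕ) :=
  [[0, 0, 0, 0, 0, 0, 0, 0, 0, 0, 0, 0, 0, 0, 0, 0, 0, 0, 0, 0, 0, 0, 0, 0, 0, 0, 0, 0, 0, 0, 0, 0, 0, 0, 0, 0, 0, 0, 0, 0],
   [0, 0, 0, 0, 0, 0, 0, 0, 0, 0, 0, 0, 0, 0, 0, 0, 0, 0, 0, 0, 0, 0, 0, 0, 0, 0, 0, 0, 0, 0, 0, 0, 0, 0, 0, 0, 0, 0, 0, 0],
   [0, 1, 0, 0, 0, 0, 0, 0, 0, 0, 0, 1, 0, 0, 0, 1, 0, 0, 0, 0, 0, 0, 0, 0, 0, 0, 0, 0, 0, 0, 0, 0, 0, 1, 0, 0, 0, 0, 0, 0],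
   [0, 0, 0, 0, 0, 0, 0, 0, 0, 0, 0, 1, 0, 0, 0, 1, 0, 0, 0, 0, 0, 0, 0, 0, 0, 0, 0, 0, 0, 0, 0, 0, 0, 1, 0, 0, 0, 0, 0, 0],
   [0, 0, 0, 0, 0, 0, 0, 0, 0, 0, 0, 0, 0, 0, 0, 0, 0, 0, 0, 0, 0, 0, 0, 0, 0, 0, 0, 0, 0, 0, 0, 0, 0, 0, 0, 0, 0, 0, 0, 0],
   [0, 0, 0, 0, 0, 0, 0, 0, 0, 0, 0, 1, 0, 0, 0, 0, 0, 0, 0, 0, 0, 0, 0, 0, 0, 0, 0, 0, 0, 0, 0, 0, 0, 0, 0, 0, 0, 0, 0, 0],
   [0, 0, 0, 0, 0, 0, 0, 0, 0, 0, 0, 0, 0, 0, 0, 1, 0, 0, 0, 0, 0, 0, 0, 0, 0, 0, 0, 0, 0, 0, 0, 0, 0, 0, 0, 0, 0, 0, 0, 0]]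

/-- The corrections. -/
def corr : List (List ℕ) :=
  corr0

/-- Part of the combinations. -/
def sols0 : List (List (ℕ × ℕ)) :=
  [[(0, 1), (1, 1), (2, 1), (4, 1), (5, 1), (6, 1), (9, 1), (12, 1), (23, 1), (24, 1), (88, 1), (92, 1), (105, 1), (107, 1), (111, 1), (113, 1)],
   [],
   [(0, 1), (1, 1), (5, 1), (7, 1), (8, 1), (9, 1), (12, 1), (15, 1), (16, 1), (23, 1), (25, 1), (35, 1), (84, 1), (99, 1), (111, 1)],
   [(1, 1), (2, 1), (6, 1), (12, 1), (15, 1), (23, 1), (24, 1), (25, 1), (88, 1), (92, 1), (112, 1)],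
   [(0, 1), (4, 1), (5, 1), (6, 1), (7, 1), (15, 1), (16, 1), (22, 1), (24, 1), (35, 1), (92, 1), (99, 1)],
   [(0, 1), (1, 1), (4, 1), (5, 1), (6, 1), (9, 1), (23, 1), (24, 1), (92, 1), (111, 1)],
   [(0, 1)],
   [(9, 1), (15, 1), (88, 1)],
   [(9, 1)],
   [(0, 1), (6, 1), (8, 1), (9, 1), (15, 1), (22, 1), (24, 1), (25, 1)],
   [(4, 1), (5, 1), (8, 1), (12, 1), (15, 1), (16, 1), (22, 1), (23, 1), (24, 1), (25, 1), (26, 1), (35, 1), (88, 1), (99, 1), (112, 1)],
   [],
   [(0, 1), (6, 1), (16, 1), (25, 1), (26, 1), (35, 1), (88, 1)],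
   [(9, 1), (12, 1)],
   [(0, 1), (4, 1), (5, 1), (6, 1), (7, 1), (15, 1), (16, 1), (22, 1), (26, 1), (35, 1), (99, 1), (111, 1)],
   [],
   [(0, 1), (4, 1), (5, 1), (6, 1), (7, 1), (15, 1), (16, 1), (22, 1), (23, 1), (24, 1), (26, 1), (35, 1), (99, 1)],
   [(4, 1), (6, 1), (7, 1), (8, 1), (16, 1), (22, 1), (24, 1), (25, 1), (35, 1), (88, 1), (99, 1)],
   [(15, 1), (16, 1)],
   [(0, 1), (4, 1), (5, 1), (6, 1), (7, 1), (15, 1), (16, 1), (22, 1), (26, 1), (35, 1), (99, 1)]]

/-- Part of the combinations. -/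
def sols1 : List (List (ℕ × ℕ)) :=
  [[(0, 1), (4, 1), (5, 1), (6, 1), (7, 1), (15, 1), (16, 1), (22, 1), (23, 1), (26, 1), (35, 1), (99, 1)],
   [(4, 1), (6, 1), (7, 1), (9, 1), (15, 1), (16, 1), (22, 1), (23, 1), (26, 1), (35, 1)],
   [(0, 1), (6, 1), (16, 1), (22, 1), (25, 1), (35, 1), (88, 1)],
   [(5, 1), (6, 1), (7, 1), (9, 1), (15, 1), (16, 1), (22, 1), (23, 1), (26, 1), (35, 1)],
   [(15, 1)],
   [(4, 1), (6, 1), (7, 1), (12, 1), (16, 1), (22, 1), (23, 1), (25, 1), (26, 1), (35, 1)],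
   [(4, 1), (5, 1), (7, 1), (8, 1), (9, 1), (15, 1), (16, 1), (23, 1), (24, 1), (25, 1), (26, 1)],
   [(4, 1), (5, 1), (7, 1), (8, 1), (9, 1), (15, 1), (16, 1), (23, 1), (24, 1), (25, 1), (26, 1), (35, 1)]]

/-- The combinations. -/
def sols : List (List (ℕ × ℕ)) :=
  sols0 ++ sols1

/-- Part of the normal words. -/
def words0 : List (List ℕ) :=
  [[],
   [4],
   [5],
   [4, 5],
   [1],
   [1, 4],
   [1, 5],
   [1, 4, 5],
   [0],
   [0, 4],
   [0, 4, 5],
   [0, 5],
   [0, 1, 4, 5],
   [0, 1, 5],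
   [0, 1, 4],
   [0, 1],
   [4, 5, 6],
   [5, 6],
   [6],
   [4, 6],
   [1, 4, 5, 6],
   [1, 5, 6],
   [1, 4, 6],
   [1, 6],
   [1, 2, 3, 4, 5, 6],
   [1, 2, 3, 5, 6],
   [1, 2, 3, 4, 6],
   [1, 2, 3, 6],
   [2],
   [2, 4],
   [2, 4, 5],
   [2, 5],
   [3],
   [3, 4],
   [3, 4, 5],
   [3, 5],
   [1, 3, 4],
   [1, 3],
   [1, 3, 4, 5],
   [1, 3, 5],
   [1, 2, 3, 4],
   [1, 2, 3],
   [1, 2, 3, 4, 5],
   [1, 2, 3, 5],
   [2, 4, 5, 6],
   [2, 5, 6],
   [2, 6],
   [2, 4, 6],
   [0, 3, 4],
   [0, 3],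
   [0, 3, 4, 5],
   [0, 3, 5],
   [0, 1, 3, 4, 5],
   [0, 1, 3, 5],
   [0, 1, 3, 4],
   [0, 1, 3],
   [0, 4, 5, 6],
   [0, 5, 6],
   [0, 4, 6],
   [0, 6],
   [0, 1, 4, 6],
   [0, 1, 6],
   [0, 1, 4, 5, 6],
   [0, 1, 5, 6],
   [3, 5, 6],
   [3, 4, 5, 6],
   [3, 6],
   [3, 4, 6],
   [1, 3, 5, 6],
   [1, 3, 4, 5, 6],
   [1, 3, 6],
   [1, 3, 4, 6],
   [0, 2, 6],
   [0, 2, 4, 6],
   [0, 1, 2, 3, 4],
   [0, 1, 2, 3],
   [0, 2, 4, 5, 6],
   [0, 2, 5, 6],
   [0, 1, 2, 3, 5],
   [0, 1, 2, 3, 4, 5],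
   [1, 2, 4, 5, 6],
   [1, 2, 5, 6],
   [2, 3],
   [2, 3, 4],
   [1, 2, 4, 6],
   [1, 2, 6],
   [2, 3, 4, 5],
   [2, 3, 5],
   [1, 2, 4],
   [1, 2],
   [2, 3, 4, 5, 6],
   [2, 3, 5, 6],
   [1, 2, 4, 5],
   [1, 2, 5],
   [2, 3, 6],
   [2, 3, 4, 6],
   [0, 3, 4, 5, 6],
   [0, 3, 5, 6],
   [0, 3, 6],
   [0, 3, 4, 6]]

/-- Part of the normal words. -/
def words1 : List (List ℕ) :=
  [[0, 1, 3, 4, 6],
   [0, 1, 3, 6],
   [0, 1, 3, 4, 5, 6],
   [0, 1, 3, 5, 6],
   [0, 2, 4, 5],
   [0, 2, 5],
   [0, 1, 2, 3, 4, 5, 6],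
   [0, 1, 2, 3, 5, 6],
   [0, 2],
   [0, 2, 4],
   [0, 1, 2, 3, 6],
   [0, 1, 2, 3, 4, 6],
   [0, 1, 2],
   [0, 1, 2, 4],
   [0, 1, 2, 4, 5],
   [0, 1, 2, 5],
   [0, 2, 3, 6],
   [0, 2, 3, 4, 6],
   [0, 2, 3, 4, 5, 6],
   [0, 2, 3, 5, 6],
   [0, 1, 2, 5, 6],
   [0, 1, 2, 4, 5, 6],
   [0, 1, 2, 4, 6],
   [0, 1, 2, 6],
   [0, 2, 3, 4, 5],
   [0, 2, 3, 5],
   [0, 2, 3],
   [0, 2, 3, 4]]

/-- The normal words. -/
def words : List (List ℕ) :=
  words0 ++ words1

/-- The certificate. -/
def cert : Cert := ⟨2, 7, ⟨gens, rels⟩, eqs, corr, sols, words⟩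

end CfsgLib.SchurCert.G12p2
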