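/-
Certificate data for the 3-part of the multiplier of the group G12.
-/
import Cfsg.Agent.SchurCert.Basic

set_option autoImplicit false
set_option maxRecDepth 100000

namespace CfsgLib.SchurCert.G12p3

open CfsgLib.M23Coh (Pres Step)

/-- Part of the generators. -/
def gens0 : List (List ℕ) :=
  [[7, 23, 2, 8, 11, 1, 6, 18, 14, 21, 10, 17, 9, 20, 3, 15, 16, 4, 0, 13, 19, 12, 22, 5],
   [0, 1, 4, 12, 19, 5, 3, 7, 21, 10, 14, 20, 6, 22, 9, 11, 8, 13, 18, 2, 15, 16, 17, 23],
   [0, 1, 15, 8, 11, 5, 16, 7, 14, 12, 6, 17, 21, 19, 3, 22, 10, 4, 18, 20, 13, 9, 2, 23],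
   [1, 18, 6, 13, 9, 7, 2, 23, 20, 17, 15, 21, 11, 14, 19, 10, 22, 12, 5, 8, 3, 4, 16, 0],
   [5, 18, 6, 4, 3, 0, 2, 23, 17, 20, 15, 14, 19, 21, 11, 10, 22, 8, 1, 12, 9, 13, 16, 7]]

/-- The generators. -/
def gens : List (List ℕ) :=
  gens0

/-- Part of the relations. -/
def rels0 : List (List ℕ × List ℕ) :=
  [([0, 0, 0], []),
   ([1, 0], [0, 1, 2, 2]),
   ([1, 1, 1], []),
   ([2, 0], [0, 2]),
   ([2, 1], [1, 2]),
   ([2, 2, 2], []),
   ([3, 0], [0, 3]),
   ([3, 1], [1, 1, 2, 2, 3]),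
   ([3, 2], [2, 2, 3]),
   ([4, 0], [0, 0, 4]),
   ([4, 1], [1, 4]),
   ([4, 2], [2, 2, 4])]

/-- The relations. -/
def rels : List (List ℕ × List ℕ) :=
  rels0

/-- Part of the derivations. -/
def eqs0 : List (List ℕ × List Step × List Step) :=
  [([0, 0, 0, 0], [(0, false, 0)], [(0, false, 1)]),
   ([1, 1, 1, 0], [(2, false, 0)], [(1, false, 2), (1, false, 1), (1, false, 0), (4, false, 3), (4, false, 2), (5, false, 3), (4, false, 3), (2, false, 1), (5, false, 1)]),
   ([1, 0, 0, 0], [(1, false, 0), (3, false, 3), (3, false, 2), (1, false, 1), (5, false, 3), (3, false, 3), (1, false, 2), (0, false, 0), (5, false, 1)], [(0, false, 1)]),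
   ([1, 1, 1, 1], [(2, false, 0)], [(2, false, 1)]),
   ([2, 2, 2, 0], [(5, false, 0)], [(3, false, 2), (3, false, 1), (3, false, 0), (5, false, 1)]),
   ([2, 0, 0, 0], [(3, false, 0), (3, false, 1), (3, false, 2), (0, false, 0)], [(0, false, 1)]),
   ([2, 1, 0], [(4, false, 0), (3, false, 1), (1, false, 0), (5, false, 2)], [(1, false, 1), (3, false, 0), (4, false, 1), (5, false, 2)]),
   ([2, 2, 2, 1], [(5, false, 0)], [(4, false, 2), (4, false, 1), (4, false, 0), (5, false, 1)]),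
   ([2, 1, 1, 1], [(4, false, 0), (4, false, 1), (4, false, 2), (2, false, 0)], [(2, false, 1)]),
   ([2, 2, 2, 2], [(5, false, 0)], [(5, false, 1)]),
   ([3, 0, 0, 0], [(6, false, 0), (6, false, 1), (6, false, 2), (0, false, 0)], [(0, false, 1)]),
   ([3, 1, 1, 1], [(7, false, 0), (7, false, 4), (7, false, 8), (4, false, 3), (4, false, 2), (2, false, 0), (4, false, 1), (4, false, 0), (5, false, 1), (4, false, 1), (4, false, 2), (2, false, 0), (5, false, 0)], [(2, false, 1)]),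
   ([3, 1, 0], [(7, false, 0), (6, false, 4), (3, false, 3), (3, false, 2), (1, false, 1), (1, false, 0), (4, false, 3), (4, false, 2), (5, false, 3), (5, false, 3)], [(1, false, 1), (6, false, 0), (7, false, 1), (8, false, 5), (8, false, 7), (5, false, 3), (5, false, 3)]),
   ([3, 2, 2, 2], [(8, false, 0), (8, false, 2), (8, false, 4), (5, false, 0), (5, false, 0)], [(5, false, 1)]),
   ([3, 2, 0], [(8, false, 0), (6, false, 2), (3, false, 1), (3, false, 0)], [(3, false, 1), (6, false, 0), (8, false, 1)]),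
   ([3, 2, 1], [(8, false, 0), (7, false, 2), (4, false, 1), (4, false, 0), (4, false, 2), (4, false, 1), (5, false, 2)], [(4, false, 1), (7, false, 0), (8, false, 4), (5, false, 2)]),
   ([4, 0, 0, 0], [(9, false, 0), (9, false, 2), (9, false, 4), (0, false, 0), (0, false, 0)], [(0, false, 1)]),
   ([4, 1, 1, 1], [(10, false, 0), (10, false, 1), (10, false, 2), (2, false, 0)], [(2, false, 1)]),
   ([4, 1, 0], [(10, false, 0), (9, false, 1), (1, false, 0), (3, false, 3), (3, false, 2), (1, false, 1), (5, false, 3)], [(1, false, 1), (9, false, 0), (10, false, 2), (11, false, 3), (11, false, 5), (5, false, 3)]),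
   ([4, 2, 2, 2], [(11, false, 0), (11, false, 2), (11, false, 4), (5, false, 0), (5, false, 0)], [(5, false, 1)]),
   ([4, 2, 0], [(11, false, 0), (9, false, 2), (3, false, 1), (3, false, 0), (3, false, 2), (3, false, 1)], [(3, false, 1), (9, false, 0), (11, false, 2)]),
   ([4, 2, 1], [(11, false, 0), (10, false, 2), (4, false, 1), (4, false, 0)], [(4, false, 1), (10, false, 0), (11, false, 1)])]

/-- The derivations. -/
def eqs : List (List ℕ × List Step × List Step) :=
  eqs0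

/-- Part of the corrections. -/
def corr0 : List (List ℕ) :=
  [[0, 0, 0, 0, 0, 0, 0, 0, 0, 0, 0, 0],
   [0, 0, 0, 0, 0, 0, 0, 0, 0, 0, 0, 0],
   [0, 0, 0, 0, 0, 0, 0, 0, 0, 0, 0, 1]]

/-- The corrections. -/
def corr : List (List ℕ) :=
  corr0

/-- Part of the combinations. -/
def sols0 : List (List (ℕ × ℕ)) :=
  [[(16, 1)],
   [(14, 1), (18, 1)],
   [(1, 1), (11, 1)],
   [(14, 1)],
   [(21, 1)],
   [(1, 1)]]

/-- The combinations. -/
def sols : List (List (ℕ × ℕ)) :=
  sols0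

/-- Part of the normal words. -/
def words0 : List (List ℕ) :=
  [[],
   [1],
   [1, 2],
   [1, 1, 2, 2],
   [2],
   [1, 2, 2],
   [1, 1],
   [1, 1, 2],
   [2, 2],
   [0],
   [0, 1, 2, 2],
   [0, 1],
   [0, 1, 1],
   [0, 2],
   [0, 1, 2],
   [0, 1, 1, 2],
   [0, 1, 1, 2, 2],
   [0, 2, 2],
   [0, 0],
   [0, 0, 1, 2],
   [0, 0, 1, 2, 2],
   [0, 0, 1, 1, 2],
   [0, 0, 2],
   [0, 0, 1],
   [0, 0, 1, 1, 2, 2],
   [0, 0, 1, 1],
   [0, 0, 2, 2]]

/-- The normal words. -/
def words : List (List ℕ) :=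
  words0

/-- The certificate. -/
def cert : Cert := ⟨3, 3, ⟨gens, rels⟩, eqs, corr, sols, words⟩

end CfsgLib.SchurCert.G12p3
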